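import Mathlib
import Cfsg.Agent.H689.Rat
import Cfsg.Agent.S1033
import Cfsg.Agent.ChevalleyStructure.TorusRange
import Cfsg.Agent.ChevalleyStructure.Elts
import Cfsg.Agent.S1059
import Cfsg.Agent.S1062
import Cfsg.Agent.S1063
import Cfsg.Agent.S1064
import Cfsg.Agent.S1065
import Cfsg.Agent.H62.PCGeo
import Cfsg.Agent.S1068
import Cfsg.Agent.S1069
import Cfsg.Agent.S1163
import Cfsg.Agent.ChevalleyStructure.E6Min.Adjoint
import Cfsg.Agent.H898.NotIn
import Cfsg.Agent.S1066
import Cfsg.Agent.ChevFast.E6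
import Cfsg.Agent.ChevFast.E7
import Cfsg.Agent.ChevFast.E8
import Cfsg.Agent.ChevFast.F4
import Cfsg.Agent.ChevFast.Lin
import Cfsg.Agent.FastGrp
import Cfsg.Agent.Prune
set_option linter.all false
prune_inst 0x7f00000000000000000000000000000000000000000000000000000000000000000000000000000000000000000000000000000000000000000000000000000000000000000000000000000000000000003fffffffffffffffffffffffffffbeffbdffffffff
open scoped Cfsg.Agent.FastGrp

-- part: H689/TOne
section
/-!
# Elements of prime order in linear groups with all powers conjugate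
-/

set_option autoImplicit false
set_option linter.unusedSectionVars false

open Polynomial

namespace Cfsg.Agent.H689

universe u v

/-- An endomorphism of prime order different from the characteristic has an eigenvalue `≠ 1`
over an algebraically closed field. -/
theorem exists_eigenvalue_ne_one {K V : Type*} [Field K] [IsAlgClosed K] [AddCommGroup V]
    [Module K V] [FiniteDimensional K V] (f : Module.End K V) {r : ℕ} (hr : (r : K) ≠ 0)
    (hf : f ^ r = 1) (hf1 : f ≠ 1) : ∃ a : K, f.HasEigenvalue a ∧ a ≠ 1 := by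
  by_contra hcon
  push Not at hcon
  apply hf1
  have hint : IsIntegral K f := Algebra.IsIntegral.isIntegral f
  have hdvd : minpoly K f ∣ X ^ r - 1 := by
    apply minpoly.dvd
    simp [hf]
  have hsep : (minpoly K f).Separable :=
    ((separable_X_pow_sub_C (1 : K) hr one_ne_zero).of_dvd (by simpa using hdvd))
  have hsplit : (minpoly K f).Splits := IsAlgClosed.splits _
  have hroots : (minpoly K f).roots ≤ {1} := by
    rw [Multiset.le_iff_subset (nodup_roots hsep)]
    intro a ha
    have h1 : (minpoly K f).IsRoot a := isRoot_of_mem_roots ha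
    rw [Multiset.mem_singleton]
    exact hcon a ((Module.End.hasEigenvalue_iff_isRoot).2 h1)
  have hprod := hsplit.eq_prod_roots_of_monic (minpoly.monic hint)
  have h2 : minpoly K f ∣ X - C 1 := by
    rw [hprod]
    have := Multiset.prod_dvd_prod_of_le (Multiset.map_le_map (f := fun a => X - C a) hroots)
    simpa using this
  obtain ⟨q, hq⟩ := h2
  have h3 : aeval f (X - C (1 : K)) = 0 := by
    rw [hq, map_mul, minpoly.aeval, zero_mul]
  simpa [sub_eq_zero] using h3

/-- The basic bound. -/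
theorem le_of_charpoly {F : Type*} [Field F] {d : Type*} [Fintype d] [DecidableEq d]
    (x : Matrix d d F) {r : ℕ} (hr : r.Prime) (hrF : (r : F) ≠ 0) (hx : x ^ r = 1) (hx1 : x ≠ 1)
    (hconj : ∀ m : ℕ, m.Coprime r → (x ^ m).charpoly = x.charpoly) :
    r ≤ Fintype.card d + 1 := by
  classical
  let K := AlgebraicClosure F
  let φ : Matrix d d F →+* Matrix d d K := (algebraMap F K).mapMatrix
  have hφ : Function.Injective φ := by
    intro a b hab
    ext i j
    exact (algebraMap F K).injective (congrFun (congrFun hab i) j)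
  let f : Module.End K (d → K) := Matrix.toLin' (φ x)
  have hpow : ∀ m : ℕ, f ^ m = Matrix.toLin' (φ (x ^ m)) := by
    intro m
    rw [map_pow, Matrix.toLin'_pow]
  have hfr : f ^ r = 1 := by
    rw [hpow, hx, map_one, Matrix.toLin'_one]; rfl
  have hf1 : f ≠ 1 := by
    intro h
    apply hx1
    apply hφ
    apply Matrix.toLin'.injective
    rw [map_one, Matrix.toLin'_one]
    exact h
  have hrK : (r : K) ≠ 0 := by
    have := (map_ne_zero (algebraMap F K)).2 hrF
    simpa using this
  obtain ⟨ζ, hζ, hζ1⟩ := exists_eigenvalue_ne_one f hrK hfr hf1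
  obtain ⟨v, hv⟩ := hζ.exists_hasEigenvector
  have hvm : ∀ m : ℕ, (f ^ m) v = ζ ^ m • v := fun m => hv.pow_apply m
  have hζr : ζ ^ r = 1 := by
    have h1 := hvm r
    rw [hfr] at h1
    have h2 : (ζ ^ r - 1) • v = 0 := by
      rw [sub_smul, one_smul, ← h1]; simp
    rcases smul_eq_zero.1 h2 with h3 | h3
    · exact sub_eq_zero.1 h3
    · exact absurd h3 hv.2
  have hFr : Fact r.Prime := ⟨hr⟩
  have hord : orderOf ζ = r := orderOf_eq_prime hζr hζ1
  have hprim : IsPrimitiveRoot ζ r := by rw [← hord]; exact IsPrimitiveRoot.orderOf ζ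
  have hroot : ∀ m : ℕ, m.Coprime r → ζ ^ m ∈ ((x.charpoly).map (algebraMap F K)).roots := by
    intro m hm
    rw [mem_roots (Polynomial.map_ne_zero (Matrix.charpoly_monic x).ne_zero), ← hconj m hm]
    have h1 : ((x ^ m).charpoly).map (algebraMap F K) = (f ^ m).charpoly := by
      rw [hpow, Matrix.charpoly_toLin']
      exact (Matrix.charpoly_map _ _).symm
    rw [h1, ← Module.End.hasEigenvalue_iff_isRoot_charpoly]
    exact Module.End.hasEigenvalue_of_hasEigenvector
      ⟨Module.End.mem_eigenspace_iff.2 (hvm m), hv.2⟩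
  -- count
  have hinj : Set.InjOn (fun m : ℕ => ζ ^ m) (Finset.Ico 1 r : Finset ℕ) := by
    intro a ha b hb hab
    rw [Finset.coe_Ico, Set.mem_Ico] at ha hb
    exact hprim.pow_inj ha.2 hb.2 hab
  have hcard : (Finset.Ico 1 r).card ≤ ((x.charpoly).map (algebraMap F K)).roots.toFinset.card := by
    rw [← Finset.card_image_of_injOn hinj]
    apply Finset.card_le_card
    intro y hy
    obtain ⟨m, hm, rfl⟩ := Finset.mem_image.1 hy
    rw [Multiset.mem_toFinset]
    rw [Finset.mem_Ico] at hm
    exact hroot m (Nat.coprime_of_lt_prime (by omega) hm.2 hr).symm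
  have h1 : ((x.charpoly).map (algebraMap F K)).roots.toFinset.card ≤ Fintype.card d := by
    refine (Multiset.toFinset_card_le _).trans ?_
    refine (card_roots' _).trans ?_
    rw [natDegree_map, Matrix.charpoly_natDegree_eq_dim]
  rw [Nat.card_Ico] at hcard
  omega

/-- If `x` has order coprime to `|Z|`, `Z` central, and `x Z` is conjugate to `x ^ m Z`, then `x` is
conjugate to `x ^ m`. -/
theorem isConj_of_quotient {L : Type u} [Group L] [Finite L] (Z : Subgroup L) [Z.Normal]
    (hZ : Z ≤ Subgroup.center L) {x : L} (hx : (orderOf x).Coprime (Nat.card Z)) {m : ℕ}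
    (h : IsConj (x : L ⧸ Z) ((x ^ m : L) : L ⧸ Z)) : IsConj x (x ^ m) := by
  obtain ⟨g, hg⟩ := isConj_iff.1 h
  obtain ⟨g, rfl⟩ := QuotientGroup.mk_surjective g
  have h1 : ((g * x * g⁻¹ : L) : L ⧸ Z) = ((x ^ m : L) : L ⧸ Z) := hg
  rw [QuotientGroup.eq] at h1
  set z := (g * x * g⁻¹)⁻¹ * x ^ m with hz
  have h2 : x ^ m = (g * x * g⁻¹) * z := by rw [hz]; group
  have hc : Commute (g * x * g⁻¹) z := by
    have := Subgroup.mem_center_iff.1 (hZ h1) (g * x * g⁻¹)
    exact this
  have h3 : z ^ orderOf x = 1 := by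
    have h4 := congrArg (· ^ orderOf x) h2
    simp only [hc.mul_pow, conj_pow, pow_orderOf_eq_one, mul_one, mul_inv_cancel, one_mul] at h4
    rw [← h4, ← pow_mul, mul_comm, pow_mul, pow_orderOf_eq_one, one_pow]
  have h5 : z ^ Nat.card Z = 1 := by
    have := pow_card_eq_one' (x := (⟨z, h1⟩ : Z))
    exact congrArg Subtype.val this
  have h6 : z = 1 := by
    have := Nat.dvd_gcd (orderOf_dvd_of_pow_eq_one h3) (orderOf_dvd_of_pow_eq_one h5)
    rw [hx.gcd_eq_one] at this
    exact orderOf_eq_one_iff.1 (Nat.dvd_one.1 this)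
  rw [h6, mul_one] at h2
  exact isConj_iff.2 ⟨g, h2.symm⟩

/-- The projective form of the bound. -/
theorem not_orat_of_rep {L : Type u} [Group L] [Finite L] {F : Type*} [Field F] {d : Type*}
    [Fintype d] [DecidableEq d] (ρ : L →* GL d F) {r : ℕ} (hr : r.Prime) (hrF : (r : F) ≠ 0)
    (hrL : r ∣ Nat.card L) (hker : ¬ r ∣ Nat.card ρ.ker) (Z : Subgroup L) [Z.Normal]
    (hZ : Z ≤ Subgroup.center L) (hrZ : ¬ r ∣ Nat.card Z) (hd : Fintype.card d + 1 < r) {n : ℕ}
    (hn : r.Coprime n) : ¬ ORat n (L ⧸ Z) := by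
  intro h
  have hF : Fact r.Prime := ⟨hr⟩
  obtain ⟨x, hx⟩ := exists_prime_orderOf_dvd_card' (G := L) r hrL
  have hrZ' : (orderOf x).Coprime (Nat.card Z) := by
    rw [hx]; exact (Nat.Prime.coprime_iff_not_dvd hr).2 hrZ
  have hxq : orderOf (x : L ⧸ Z) = r := by
    have h1 : orderOf (x : L ⧸ Z) ∣ r := by
      rw [← hx]; exact orderOf_map_dvd (QuotientGroup.mk' Z) x
    rcases (Nat.dvd_prime hr).1 h1 with h2 | h2
    · exfalso
      rw [orderOf_eq_one_iff, QuotientGroup.eq_one_iff] at h2
      apply hrZ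
      rw [← hx]
      exact Subgroup.orderOf_dvd_natCard Z h2
    · exact h2
  have hρx : ρ x ≠ 1 := by
    intro h1
    apply hker
    have h2 : x ∈ ρ.ker := h1
    rw [← hx]
    exact Subgroup.orderOf_dvd_natCard ρ.ker h2
  have hpow : x ^ r = 1 := by rw [← hx]; exact pow_orderOf_eq_one x
  have e1 : ((ρ x : GL d F) : Matrix d d F) ^ r = 1 := by
    rw [← Units.val_pow_eq_pow_val, ← map_pow, hpow, map_one, Units.val_one]
  have e2 : ((ρ x : GL d F) : Matrix d d F) ≠ 1 := fun h1 => hρx (Units.ext h1)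
  have e3 : ∀ m : ℕ, m.Coprime r → (((ρ x : GL d F) : Matrix d d F) ^ m).charpoly =
      ((ρ x : GL d F) : Matrix d d F).charpoly := by
    intro m hm
    have h3 := h (x : L ⧸ Z) (by rw [hxq]; exact hn) m (by rw [hxq]; exact hm)
    have h4 : IsConj x (x ^ m) := isConj_of_quotient Z hZ hrZ' h3
    obtain ⟨g, hg⟩ := isConj_iff.1 h4
    have h5 : ((ρ x : GL d F) : Matrix d d F) ^ m =
        ((ρ g : GL d F) : Matrix d d F) * ((ρ x : GL d F) : Matrix d d F) *
          (((ρ g)⁻¹ : GL d F) : Matrix d d F) := by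
      rw [← Units.val_pow_eq_pow_val, ← map_pow, ← hg, map_mul, map_mul, map_inv,
        Units.val_mul, Units.val_mul]
    rw [h5, Matrix.charpoly_mul_comm, ← mul_assoc, ← Units.val_mul, inv_mul_cancel,
      Units.val_one, one_mul]
  exact absurd (le_of_charpoly _ hr hrF e1 e2 e3) (not_le.2 hd)

end Cfsg.Agent.H689
end

-- part: H689/ExcTorus
section
/-!
# Torus elements of the Chevalley groups
-/

set_option autoImplicit false
set_option linter.unusedSectionVars false

open Cfsg Cfsg.Lie Matrix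
open Cfsg.Agent.ChevalleyStructure.TorusRange Cfsg.Agent.ChevalleyStructure.TorusCount

namespace Cfsg.Agent.H689

universe u

/-- Similar diagonal matrices have the same entries with multiplicities. -/
theorem card_eq_of_similar {ι F : Type*} [Field F] [Fintype ι] [DecidableEq ι] (d d' : ι → F)
    (g : GL ι F) (h : (g : Matrix ι ι F) * diagonal d = diagonal d' * (g : Matrix ι ι F)) (c : F) :
    Nat.card {i // d i = c} = Nat.card {i // d' i = c} := by
  classical
  have key : ∀ e : ι → F, (diagonal e - diagonal (fun _ => c)).rank + Nat.card {i // e i = c} =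
      Fintype.card ι := by
    intro e
    rw [diagonal_sub, rank_diagonal, Nat.card_eq_fintype_card]
    have h2 : Fintype.card {i // e i - c ≠ 0} = Fintype.card {i // ¬ e i = c} := by
      refine Fintype.card_congr (Equiv.subtypeEquivRight fun i => ?_)
      rw [sub_ne_zero]
    rw [h2, Fintype.card_subtype_compl]
    exact Nat.sub_add_cancel (Fintype.card_subtype_le _)
  have h1 : (g : Matrix ι ι F) * (diagonal d - diagonal (fun _ => c)) =
      (diagonal d' - diagonal (fun _ => c)) * (g : Matrix ι ι F) := by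
    rw [mul_sub, sub_mul, h]
    congr 1
    ext i j
    rw [mul_diagonal, diagonal_mul, mul_comm]
  have hu : IsUnit (g : Matrix ι ι F).det := (isUnit_iff_isUnit_det _).1 g.isUnit
  have h2 : (diagonal d - diagonal (fun _ : ι => c)).rank =
      (diagonal d' - diagonal (fun _ : ι => c)).rank := by
    rw [← rank_mul_eq_right_of_isUnit_det (g : Matrix ι ι F) _ hu, h1,
      rank_mul_eq_left_of_isUnit_det (g : Matrix ι ι F) _ hu]
  have k1 := key d
  have k2 := key d'
  omega

/-- Arithmetic: if all units modulo `N` are `±1` then `N ∈ {1, 2, 3, 4, 6}`. -/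
theorem arith_units {N : ℕ} (hN : 1 ≤ N) (h : ∀ m : ℕ, 1 ≤ m → m.Coprime N → N ∣ m - 1 ∨ N ∣ m + 1) :
    N = 1 ∨ N = 2 ∨ N = 3 ∨ N = 4 ∨ N = 6 := by
  rcases Nat.even_or_odd N with he | ho
  · obtain ⟨k, hk⟩ := he
    have hN2 : N = 2 * k := by omega
    rcases Nat.even_or_odd k with hke | hko
    · have hc : (k + 1).Coprime N := by
        rw [hN2]
        refine Nat.Coprime.mul_right ?_ ?_
        · rw [Nat.coprime_two_right]
          exact hke.add_one
        · exact (Nat.coprime_self_add_left).2 (Nat.coprime_one_left k)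
      rcases h (k + 1) (by omega) hc with h1 | h1
      · rcases Nat.eq_zero_or_pos k with h0 | h0
        · omega
        · have := Nat.le_of_dvd (by omega) h1
          omega
      · have := Nat.le_of_dvd (by omega) h1
        have : k = 1 ∨ k = 2 := by omega
        rcases this with rfl | rfl
        · exact absurd hke (by decide)
        · omega
    · have hc : (k + 2).Coprime N := by
        rw [hN2]
        refine Nat.Coprime.mul_right ?_ ?_
        · rw [Nat.coprime_two_right]
          exact Odd.add_even hko (by decide)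
        · rw [add_comm]
          exact (Nat.coprime_add_self_left).2 ((Nat.coprime_two_left).2 hko)
      rcases h (k + 2) (by omega) hc with h1 | h1
      · have := Nat.le_of_dvd (by omega) h1
        omega
      · have := Nat.le_of_dvd (by omega) h1
        have : k = 1 ∨ k = 2 ∨ k = 3 := by omega
        rcases this with rfl | rfl | rfl
        · omega
        · exact absurd hko (by decide)
        · omega
  · have hc : (2 : ℕ).Coprime N := (Nat.coprime_two_left).2 ho
    rcases h 2 (by omega) hc with h1 | h1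
    · have := Nat.le_of_dvd (by omega) h1
      omega
    · have := Nat.le_of_dvd (by omega) h1
      have : N = 1 ∨ N = 2 ∨ N = 3 := by omega
      omega

/-- The torus argument. -/
theorem torus_units_gen {F : Type*} [Field F] {D : ChevalleyDatum} {i : ℕ}
    (h1 : 3 ≤ Nat.card {s : Fin D.nroots // D.cartan i s = 1})
    (h2 : Nat.card {s : Fin D.nroots // D.cartan i s = 2 ∨ D.cartan i s = -2} ≤ 2)
    (h3 : ∀ s : Fin D.nroots, -2 ≤ D.cartan i s ∧ D.cartan i s ≤ 2) {G : Subgroup (GL D.Idx F)}
    [Finite G] {n : ℕ} (hR : ORat n G) (u : Fˣ) (hu : orderOf u ≠ 0) (hn : (orderOf u).Coprime n)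
    (h : GL D.Idx F) (hmem : h ∈ G) (hdiag : (h : Matrix D.Idx D.Idx F) = diagonal
      (Sum.elim (fun _ => (1 : F)) (fun s : Fin D.nroots => (u : F) ^ (D.cartan i s)))) :
    orderOf u = 1 ∨ orderOf u = 2 ∨ orderOf u = 3 ∨ orderOf u = 4 ∨ orderOf u = 6 := by
  classical
  refine arith_units (Nat.one_le_iff_ne_zero.2 hu) ?_
  intro m hm1 hm
  have hmat : ∀ k : ℕ, ((h ^ k : GL D.Idx F) : Matrix D.Idx D.Idx F) = diagonal
      (Sum.elim (fun _ => (1 : F)) (fun s : Fin D.nroots => ((u : F) ^ k) ^ (D.cartan i s))) := by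
    intro k
    rw [Units.val_pow_eq_pow_val, hdiag, diagonal_pow]
    congr 1
    funext x
    rcases x with j | s
    · simp
    · simp only [Pi.pow_apply, Sum.elim_inr]
      rw [← zpow_natCast, ← _root_.zpow_mul, mul_comm, _root_.zpow_mul, zpow_natCast]
  by_contra hcon
  push Not at hcon
  have hord : orderOf (⟨h, hmem⟩ : G) ∣ orderOf u := by
    rw [Subgroup.orderOf_mk]
    apply orderOf_dvd_of_pow_eq_one
    apply Units.ext
    rw [hmat, ← Units.val_pow_eq_pow_val, pow_orderOf_eq_one, Units.val_one, Units.val_one,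
      ← diagonal_one]
    congr 1
    funext x
    rcases x with j | s
    · rfl
    · simp only [Sum.elim_inr]
      rw [_root_.one_zpow]
  obtain ⟨g, hg⟩ := isConj_iff.1 (hR ⟨h, hmem⟩ (hn.coprime_dvd_left hord) m
    (hm.coprime_dvd_right hord))
  have hg' : (g : GL D.Idx F) * h * (g : GL D.Idx F)⁻¹ = h ^ m := congrArg Subtype.val hg
  have hg2 : (g : GL D.Idx F) * h = h ^ m * g := by rw [← hg']; group
  have hg3 : ((g : GL D.Idx F) : Matrix D.Idx D.Idx F) * (h : Matrix D.Idx D.Idx F) =
      ((h ^ m : GL D.Idx F) : Matrix D.Idx D.Idx F) * ((g : GL D.Idx F) : Matrix D.Idx D.Idx F) := by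
    rw [← Units.val_mul, ← Units.val_mul, hg2]
  have e1 := hmat 1
  rw [pow_one] at e1
  rw [e1, hmat m] at hg3
  -- multiplicities of `u ^ m`
  have key := card_eq_of_similar _ _ (g : GL D.Idx F) hg3 ((u : F) ^ m)
  have hum1 : (u : F) ^ m ≠ 1 := by
    intro h0
    have : u ^ m = 1 := Units.ext (by rw [Units.val_pow_eq_pow_val, h0, Units.val_one])
    have h5 := orderOf_dvd_of_pow_eq_one this
    have h6 := Nat.Coprime.eq_one_of_dvd hm.symm h5
    apply hcon.1
    rw [h6]; exact one_dvd _
  have hne1 : (u : F) ^ m ≠ u := by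
    intro h0
    have h4 : u ^ m = u ^ 1 := Units.ext (by
      rw [Units.val_pow_eq_pow_val, h0, pow_one])
    rw [pow_eq_pow_iff_modEq] at h4
    exact hcon.1 ((Nat.modEq_iff_dvd' hm1).1 h4.symm)
  have hne2 : (u : F) ^ m ≠ (u : F)⁻¹ := by
    intro h0
    have h4 : u ^ (m + 1) = 1 := by
      apply Units.ext
      rw [pow_succ, Units.val_mul, Units.val_pow_eq_pow_val, h0, Units.val_one]
      exact inv_mul_cancel₀ (Units.ne_zero u)
    have h5 := orderOf_dvd_of_pow_eq_one h4
    exact hcon.2 h5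
  have hL : Nat.card {x : D.Idx // Sum.elim (fun _ => (1 : F))
      (fun s : Fin D.nroots => ((u : F) ^ 1) ^ (D.cartan i s)) x = (u : F) ^ m} ≤ 2 := by
    refine le_trans ?_ h2
    refine Nat.card_le_card_of_injective
      (fun x => (⟨(match x with | ⟨Sum.inl j, hj⟩ => absurd hj.symm hum1 | ⟨Sum.inr s, _⟩ => s), by
        rcases x with ⟨j | s, hx⟩
        · exact absurd hx.symm hum1
        · simp only [Sum.elim_inr, pow_one] at hx ⊢
          have h4 := h3 s
          have h5 : D.cartan i s = -2 ∨ D.cartan i s = -1 ∨ D.cartan i s = 0 ∨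
            D.cartan i s = 1 ∨ D.cartan i s = 2 := by omega
          rcases h5 with h5 | h5 | h5 | h5 | h5
          · exact Or.inr h5
          · rw [h5] at hx
            exact absurd hx.symm (by rw [_root_.zpow_neg_one]; exact hne2)
          · rw [h5, zpow_zero] at hx
            exact absurd hx.symm hum1
          · rw [h5, zpow_one] at hx
            exact absurd hx.symm hne1
          · exact Or.inl h5⟩ : {s : Fin D.nroots // D.cartan i s = 2 ∨ D.cartan i s = -2})) ?_
    rintro ⟨j | s, hx⟩ ⟨j' | s', hx'⟩ hh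
    · exact absurd hx.symm hum1
    · exact absurd hx.symm hum1
    · exact absurd hx'.symm hum1
    · have : s = s' := congrArg Subtype.val hh
      subst this; rfl
  have hRr : 3 ≤ Nat.card {x : D.Idx // Sum.elim (fun _ => (1 : F))
      (fun s : Fin D.nroots => ((u : F) ^ m) ^ (D.cartan i s)) x = (u : F) ^ m} := by
    refine le_trans h1 ?_
    refine Nat.card_le_card_of_injective (fun s => (⟨Sum.inr s.1, by
      simp only [Sum.elim_inr]
      rw [s.2, zpow_one]⟩ : {x : D.Idx // Sum.elim (fun _ => (1 : F))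
      (fun s : Fin D.nroots => ((u : F) ^ m) ^ (D.cartan i s)) x = (u : F) ^ m})) ?_
    intro a b hab
    have : (Sum.inr a.1 : D.Idx) = Sum.inr b.1 := congrArg Subtype.val hab
    exact Subtype.ext (Sum.inr.inj this)
  omega


/-- The torus argument. -/
theorem torus_units {F : Type*} [Field F] [Fintype F] {D : ChevalleyDatum}
    (hD : D ∈ [chevG2, chevB2, chevD4, chevF4, chevE6, chevE7, chevE8]) {i : ℕ} (hi : i < D.rank)
    (hs : ∀ i < D.rank, D.simple i < D.nroots)
    (h1 : 3 ≤ Nat.card {s : Fin D.nroots // D.cartan i s = 1})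
    (h2 : Nat.card {s : Fin D.nroots // D.cartan i s = 2 ∨ D.cartan i s = -2} ≤ 2)
    (h3 : ∀ s : Fin D.nroots, -2 ≤ D.cartan i s ∧ D.cartan i s ≤ 2) {n : ℕ}
    (hR : ORat n (D.group F)) (hn : (Fintype.card F - 1).Coprime n) :
    Fintype.card F - 1 = 1 ∨ Fintype.card F - 1 = 2 ∨ Fintype.card F - 1 = 3 ∨
      Fintype.card F - 1 = 4 ∨ Fintype.card F - 1 = 6 := by
  have hq : 1 < Fintype.card F := Fintype.one_lt_card
  classical
  obtain ⟨u, hu⟩ := IsCyclic.exists_generator (α := Fˣ)
  have hou : orderOf u = Fintype.card F - 1 := by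
    rw [orderOf_eq_card_of_forall_mem_zpowers hu, Nat.card_eq_fintype_card, Fintype.card_units]
  have hA : SimpleDiag D F := fun i hi c hc => S1033.result D hD i hi c hc
  rw [← hou] at hn ⊢
  have hmem := torusHom_mulSingle_mem hA hs ⟨i, hi⟩ u
  refine torus_units_gen h1 h2 h3 hR u (by omega) hn _
    (ChevalleyStructure.Elts.diagonal_le_group hD F hmem) ?_
  rw [coe_torusHom]
  congr 1
  funext x
  rcases x with j | s
  · rfl
  · simp only [Sum.elim_inr]
    rw [mon_def, Finset.prod_eq_single (⟨i, hi⟩ : Fin D.rank)]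
    · rw [Pi.mulSingle_eq_same, Units.val_zpow_eq_zpow_val]
      rfl
    · intro j _ hj
      rw [Pi.mulSingle_eq_of_ne hj, _root_.one_zpow]
    · intro h
      exact absurd (Finset.mem_univ _) h

end Cfsg.Agent.H689
end

-- part: H689/Exc1
section
/-!
# The Chevalley groups of exceptional type are not rational
-/

set_option autoImplicit false
set_option linter.unusedSectionVars false

open Cfsg Cfsg.Lie Matrix

namespace Cfsg.Agent.H689

universe u

theorem not_orat_of_inj {L : Type u} [Group L] [Finite L] {F : Type*} [Field F] {d : Type*}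
    [Fintype d] [DecidableEq d] (ρ : L →* GL d F) (hρ : Function.Injective ρ) {r : ℕ}
    (hr : r.Prime) (hrF : (r : F) ≠ 0) (hrL : r ∣ Nat.card L) (hd : Fintype.card d + 1 < r)
    {n : ℕ} (hn : r.Coprime n) : ¬ ORat n L := by
  intro h
  have h1 : ORat n (L ⧸ (⊥ : Subgroup L)) := h.of_equiv QuotientGroup.quotientBot.symm
  refine not_orat_of_rep ρ hr hrF hrL ?_ (⊥ : Subgroup L) bot_le ?_ hd hn h1
  · rw [(MonoidHom.ker_eq_bot_iff ρ).2 hρ, Subgroup.card_bot]
    exact hr.one_lt.ne' ∘ Nat.dvd_one.1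
  · rw [Subgroup.card_bot]
    exact hr.one_lt.ne' ∘ Nat.dvd_one.1

theorem natCast_ne_zero_of_not_dvd_card {F : Type*} [Field F] [Fintype F] {r : ℕ} (hr : r.Prime)
    (h : ¬ r ∣ Fintype.card F) : (r : F) ≠ 0 := by
  intro h0
  obtain ⟨p, hp⟩ := CharP.exists F
  have hpp : p.Prime := CharP.char_is_prime F p
  have h1 : p ∣ r := (CharP.cast_eq_zero_iff F p r).1 h0
  have h2 : p = r := (Nat.prime_dvd_prime_iff_eq hpp hr).1 h1
  subst h2
  obtain ⟨n, _, hn⟩ := FiniteField.card F p
  exact h (hn ▸ dvd_pow_self p n.ne_zero)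

theorem adj_not_orat {D : ChevalleyDatum} {F : Type*} [Field F] [Fintype F] {r : ℕ} (hr : r.Prime)
    (hrq : ¬ r ∣ Fintype.card F) (hrL : r ∣ Nat.card (D.group F)) (hd : D.rank + D.nroots + 1 < r) :
    ¬ ORat 1 (D.group F) := by
  refine not_orat_of_inj (D.group F).subtype Subtype.val_injective hr
    (natCast_ne_zero_of_not_dvd_card hr hrq) hrL ?_ (Nat.coprime_one_right r)
  have : Fintype.card D.Idx = D.rank + D.nroots := by
    simp [ChevalleyDatum.Idx]
  omega

theorem card_cases {F : Type*} [Field F] [Fintype F]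
    (h : Fintype.card F - 1 = 1 ∨ Fintype.card F - 1 = 2 ∨ Fintype.card F - 1 = 3 ∨
      Fintype.card F - 1 = 4 ∨ Fintype.card F - 1 = 6) : Fintype.card F = 2 ∨ Fintype.card F = 3 ∨
      Fintype.card F = 4 ∨ Fintype.card F = 5 ∨ Fintype.card F = 7 := by
  omega

/-- `E₈(q)` -/
theorem not_ratl_e8 {F : Type*} [Field F] [Fintype F] : ¬ Ratl (chevE8.group F) := by
  intro h
  have h1 := h.orat 1
  have hq := card_cases (torus_units (D := chevE8) (by simp) (i := 0) (by decide)
    (by decide +kernel) (by rw [Nat.card_eq_fintype_card]; (rewrite [Cfsg.Agent.ChevFast.E8.cartan]; decide +kernel))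
    (by rw [Nat.card_eq_fintype_card]; (rewrite [Cfsg.Agent.ChevFast.E8.cartan]; decide +kernel)) (by (rewrite [Cfsg.Agent.ChevFast.E8.cartan]; decide +kernel)) h1
    (Nat.coprime_one_right _))
  have hc := S1065.result (F := F) rfl
  rcases hq with hq | hq | hq | hq | hq
  · exact adj_not_orat (D := chevE8) (F := F) (r := 331) (by norm_num) (by rw [hq]; decide)
      (by rw [hc, hq]; decide +kernel) (by decide) h1
  · exact adj_not_orat (D := chevE8) (F := F) (r := 1093) (by norm_num) (by rw [hq]; decide)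
      (by rw [hc, hq]; decide +kernel) (by decide) h1
  · exact adj_not_orat (D := chevE8) (F := F) (r := 331) (by norm_num) (by rw [hq]; decide)
      (by rw [hc, hq]; decide +kernel) (by decide) h1
  · exact adj_not_orat (D := chevE8) (F := F) (r := 19531) (by norm_num) (by rw [hq]; decide)
      (by rw [hc, hq]; decide +kernel) (by decide) h1
  · exact adj_not_orat (D := chevE8) (F := F) (r := 4733) (by norm_num) (by rw [hq]; decide)
      (by rw [hc, hq]; decide +kernel) (by decide) h1

/-- `E₇(q)`, `q ≥ 3` -/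
theorem card_e7 {F : Type*} [Field F] [Fintype F] (h : Ratl (chevE7.group F)) :
    Fintype.card F = 2 := by
  have h1 := h.orat 1
  have hq := card_cases (torus_units (D := chevE7) (by simp) (i := 0) (by decide)
    (by decide +kernel) (by rw [Nat.card_eq_fintype_card]; (rewrite [Cfsg.Agent.ChevFast.E7.cartan]; decide +kernel))
    (by rw [Nat.card_eq_fintype_card]; (rewrite [Cfsg.Agent.ChevFast.E7.cartan]; decide +kernel)) (by (rewrite [Cfsg.Agent.ChevFast.E7.cartan]; decide +kernel)) h1
    (Nat.coprime_one_right _))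
  have hc := S1064.result (F := F) rfl
  have key : ∀ r : ℕ, r.Prime → 134 < r → ¬ r ∣ Fintype.card F →
      r ∣ Nat.gcd 2 (Fintype.card F - 1) * Nat.card ↥(chevE7.group F) → False := by
    intro r hr hlt hrq hd
    refine adj_not_orat (D := chevE7) (F := F) hr hrq ?_
      (by rw [show chevE7.rank + chevE7.nroots + 1 = 134 by decide]; exact hlt) h1
    refine (Nat.Coprime.dvd_mul_left ?_).1 hd
    refine Nat.Coprime.coprime_dvd_right (Nat.gcd_dvd_left _ _) ?_
    exact (Nat.coprime_primes hr Nat.prime_two).2 (by omega)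
  rcases hq with hq | hq | hq | hq | hq
  · exact hq
  · exact (key 1093 (by norm_num) (by decide) (by rw [hq]; decide)
      (by rw [hc, hq]; decide +kernel)).elim
  · exact (key 241 (by norm_num) (by decide) (by rw [hq]; decide)
      (by rw [hc, hq]; decide +kernel)).elim
  · exact (key 19531 (by norm_num) (by decide) (by rw [hq]; decide)
      (by rw [hc, hq]; decide +kernel)).elim
  · exact (key 4733 (by norm_num) (by decide) (by rw [hq]; decide)
      (by rw [hc, hq]; decide +kernel)).elim

/-- `E₆(q)`, `q ≥ 3` -/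
theorem card_e6 {F : Type*} [Field F] [Fintype F] (h : Ratl (chevE6.group F)) :
    Fintype.card F = 2 := by
  have h1 := h.orat 1
  have hq := card_cases (torus_units (D := chevE6) (by simp) (i := 0) (by decide)
    (by decide +kernel) (by rw [Nat.card_eq_fintype_card]; (rewrite [Cfsg.Agent.ChevFast.E6.cartan]; decide +kernel))
    (by rw [Nat.card_eq_fintype_card]; decide +kernel) (by (rewrite [Cfsg.Agent.ChevFast.E6.cartan]; decide +kernel)) h1
    (Nat.coprime_one_right _))
  have hc := S1063.result (F := F) rfl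
  have key : ∀ r : ℕ, r.Prime → 79 < r → ¬ r ∣ Fintype.card F →
      r ∣ Nat.gcd 3 (Fintype.card F - 1) * Nat.card ↥(chevE6.group F) → False := by
    intro r hr hlt hrq hd
    refine adj_not_orat (D := chevE6) (F := F) hr hrq ?_
      (by rw [show chevE6.rank + chevE6.nroots + 1 = 79 by decide]; exact hlt) h1
    refine (Nat.Coprime.dvd_mul_left ?_).1 hd
    refine Nat.Coprime.coprime_dvd_right (Nat.gcd_dvd_left _ _) ?_
    exact (Nat.coprime_primes hr Nat.prime_three).2 (by omega)
  rcases hq with hq | hq | hq | hq | hq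
  · exact hq
  · exact (key 757 (by norm_num) (by decide) (by rw [hq]; decide)
      (by rw [hc, hq]; decide +kernel)).elim
  · exact (key 241 (by norm_num) (by decide) (by rw [hq]; decide)
      (by rw [hc, hq]; decide +kernel)).elim
  · exact (key 829 (by norm_num) (by decide) (by rw [hq]; decide)
      (by rw [hc, hq]; decide +kernel)).elim
  · exact (key 2801 (by norm_num) (by decide) (by rw [hq]; decide)
      (by rw [hc, hq]; decide +kernel)).elim

/-- `F₄(q)`, `q ≥ 3` -/
theorem card_f4 {F : Type*} [Field F] [Fintype F] (h : Ratl (chevF4.group F)) :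
    Fintype.card F = 2 := by
  have h1 := h.orat 1
  have hq := card_cases (torus_units (D := chevF4) (by simp) (i := 3) (by decide)
    (by decide +kernel) (by rw [Nat.card_eq_fintype_card]; (rewrite [Cfsg.Agent.ChevFast.F4.cartan]; decide +kernel))
    (by rw [Nat.card_eq_fintype_card]; decide +kernel) (by decide +kernel) h1
    (Nat.coprime_one_right _))
  have hc := S1062.result (F := F) rfl
  rcases hq with hq | hq | hq | hq | hq
  · exact hq
  · exact (adj_not_orat (D := chevF4) (F := F) (r := 73) (by norm_num) (by rw [hq]; decide)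
      (by rw [hc, hq]; decide +kernel) (by decide) h1).elim
  · exact (adj_not_orat (D := chevF4) (F := F) (r := 241) (by norm_num) (by rw [hq]; decide)
      (by rw [hc, hq]; decide +kernel) (by decide) h1).elim
  · exact (adj_not_orat (D := chevF4) (F := F) (r := 601) (by norm_num) (by rw [hq]; decide)
      (by rw [hc, hq]; decide +kernel) (by decide) h1).elim
  · exact (adj_not_orat (D := chevF4) (F := F) (r := 1201) (by norm_num) (by rw [hq]; decide)
      (by rw [hc, hq]; decide +kernel) (by decide) h1).elim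

/-- `G₂(q)`, `q ≥ 5` -/
theorem card_g2 {F : Type*} [Field F] [Fintype F] (h : Ratl (chevG2.group F)) :
    Fintype.card F = 2 ∨ Fintype.card F = 3 ∨ Fintype.card F = 4 := by
  have h1 := h.orat 1
  have hq := card_cases (torus_units (D := chevG2) (by simp) (i := 1) (by decide)
    (by decide +kernel) (by rw [Nat.card_eq_fintype_card]; decide +kernel)
    (by rw [Nat.card_eq_fintype_card]; decide +kernel) (by decide +kernel) h1
    (Nat.coprime_one_right _))
  have hc := S1059.result (F := F) rfl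
  rcases hq with hq | hq | hq | hq | hq
  · exact Or.inl hq
  · exact Or.inr (Or.inl hq)
  · exact Or.inr (Or.inr hq)
  · exact (adj_not_orat (D := chevG2) (F := F) (r := 31) (by norm_num) (by rw [hq]; decide)
      (by rw [hc, hq]; decide +kernel) (by decide) h1).elim
  · exact (adj_not_orat (D := chevG2) (F := F) (r := 43) (by norm_num) (by rw [hq]; decide)
      (by rw [hc, hq]; decide +kernel) (by decide) h1).elim

end Cfsg.Agent.H689
end

-- part: H689/Exc2
section
/-!
# The groups of type `²B₂`, `²G₂`, `²F₄` are not rational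
-/

set_option autoImplicit false
set_option linter.unusedSectionVars false

open Cfsg Cfsg.Lie Matrix

namespace Cfsg.Agent.H689

universe u

theorem not_dvd_card_of_ppd {F : Type*} [Fintype F] {q k r a : ℕ} (h : Ppd q k r)
    (hF : Fintype.card F = q ^ a) : ¬ r ∣ Fintype.card F := by
  rw [hF]
  intro h1
  exact h.not_dvd (h.prime.dvd_of_dvd_pow h1)

theorem not_ratl_sz {F : Type*} [Field F] [Fintype F] {m : ℕ} (hm : 1 ≤ m)
    (hF : Fintype.card F = 2 ^ (2 * m + 1)) : ¬ Ratl (Lie.Sz F (2 ^ (m + 1))) := by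
  intro h
  obtain ⟨r, hr⟩ := exists_ppd (q := 2) (k := 2 * (2 * (2 * m + 1))) le_rfl (by omega) (by omega)
  have h1 := hr.le (by omega)
  have h2 : r ∣ 2 ^ (2 * (2 * m + 1)) + 1 := hr.dvd_add_one (by omega)
  refine not_orat_of_inj (Lie.Sz F (2 ^ (m + 1))).subtype Subtype.val_injective hr.prime
    (natCast_ne_zero_of_not_dvd_card hr.prime (not_dvd_card_of_ppd hr hF)) ?_ ?_
    (Nat.coprime_one_right r) (h.orat 1)
  · rw [(S1163.result hm hF).1]
    refine Dvd.dvd.mul_left ?_ _
    rw [← pow_mul, mul_comm (2 * m + 1) 2]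
    exact h2
  · rw [Fintype.card_fin]; omega

theorem not_ratl_ree {K : Type*} [Field K] [Fintype K] {m : ℕ} (hm : 1 ≤ m)
    (hF : Fintype.card K = 3 ^ (2 * m + 1)) : ¬ Ratl (twistedG2 K (3 ^ m)) := by
  intro h
  obtain ⟨r, hr⟩ := exists_ppd (q := 3) (k := 2 * (3 * (2 * m + 1))) (by omega) (by omega) (by omega)
  have h1 := hr.le (by omega)
  have h2 : r ∣ 3 ^ (3 * (2 * m + 1)) + 1 := hr.dvd_add_one (by omega)
  refine not_orat_of_inj (twistedG2 K (3 ^ m)).subtype Subtype.val_injective hr.prime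
    (natCast_ne_zero_of_not_dvd_card hr.prime (not_dvd_card_of_ppd hr hF)) ?_ ?_
    (Nat.coprime_one_right r) (h.orat 1)
  · rw [S1069.result hF]
    refine Dvd.dvd.mul_left ?_ _
    rw [← pow_mul, mul_comm (2 * m + 1) 3]
    exact h2
  · have : Fintype.card chevG2.Idx = 14 := by decide
    omega

theorem not_ratl_tf4 {K : Type*} [Field K] [Fintype K] {m : ℕ} (hm : 1 ≤ m)
    (hF : Fintype.card K = 2 ^ (2 * m + 1)) : ¬ Ratl (twistedF4 K (2 ^ m)) := by
  intro h
  obtain ⟨r, hr, hrK, h1, h2⟩ : ∃ r : ℕ, r.Prime ∧ ¬ r ∣ Fintype.card K ∧ 53 < r ∧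
      r ∣ 2 ^ (6 * (2 * m + 1)) + 1 := by
    rcases Nat.lt_or_ge m 2 with h0 | h0
    · have : m = 1 := by omega
      subst this
      refine ⟨109, by norm_num, by rw [hF]; decide, by decide, by decide +kernel⟩
    · obtain ⟨r, hr⟩ := exists_ppd (q := 2) (k := 2 * (6 * (2 * m + 1))) (by omega) (by omega)
        (by omega)
      have h1 := hr.le (by omega)
      exact ⟨r, hr.prime, not_dvd_card_of_ppd hr hF, by omega, hr.dvd_add_one (by omega)⟩
  refine not_orat_of_inj (twistedF4 K (2 ^ m)).subtype Subtype.val_injective hr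
    (natCast_ne_zero_of_not_dvd_card hr hrK) ?_ ?_ (Nat.coprime_one_right r) (h.orat 1)
  · rw [S1068.result hF]
    refine Dvd.dvd.mul_left ?_ _
    rw [← pow_mul, mul_comm (2 * m + 1) 6]
    exact h2
  · have : Fintype.card chevF4.Idx = 52 := by decide
    omega

end Cfsg.Agent.H689
end

-- part: H689/ExcSix
section
/-!
# `E₆(2)` and `²E₆(q)`, `q ≥ 3`
-/

set_option autoImplicit false
set_option linter.unusedSectionVars false

open Cfsg Cfsg.Lie Matrix
open Cfsg.Agent.ChevalleyStructure.E6Min.Basic Cfsg.Agent.ChevalleyStructure.E6Min.Adjoint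
  Cfsg.Agent.ChevalleyStructure.E6Min.Tables

namespace Cfsg.Agent.H689

universe u

theorem chk_sep : ∀ x y : I27, x ≠ y → ∃ r : Fin 72, sg r x ≠ 0 ∧ sg r y = 0 := by
  (open scoped Cfsg.Agent.ChevFast.Lin in decide +kernel)

theorem chk_conn : ∀ x : I27, ∃ r : Fin 72, (x = dec 0 ∨ (sg r x ≠ 0 ∧ sr r x = dec 0)) ∨
    ∃ s : Fin 72, sg r x ≠ 0 ∧ sg s (sr r x) ≠ 0 ∧ sr s (sr r x) = dec 0 := by
  have h : ∀ j < 27, ∃ r < 72, j = 0 ∨ (sgN r j ≠ 0 ∧ (srN r j = 0 ∨
      ∃ s < 72, sgN s (srN r j) ≠ 0 ∧ srN s (srN r j) = 0)) := by decide +kernel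
  intro x
  obtain ⟨r, hr, h1⟩ := h _ (code_lt x)
  refine ⟨⟨r, hr⟩, ?_⟩
  rcases h1 with h1 | ⟨h1, h2 | ⟨s, hs, h2, h3⟩⟩
  · exact Or.inl (Or.inl ((dec_code x).symm.trans (congrArg dec h1)))
  · exact Or.inl (Or.inr ⟨h1, congrArg dec h2⟩)
  · exact Or.inr ⟨⟨s, hs⟩, h1, (sg_sr hr x).symm ▸ h2, (sr_sr hr x).trans (congrArg dec h3)⟩

theorem chk_sg : ∀ (r : Fin 72) (x : I27), sg r x = 0 ∨ sg r x = 1 ∨ sg r x = -1 := by
  decide +kernel

theorem sg_ne_zero {F : Type*} [Field F] {r : ℕ} (hr : r < 72) {x : I27} (h : sg r x ≠ 0) :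
    ((sg r x : ℤ) : F) ≠ 0 := by
  rcases chk_sg ⟨r, hr⟩ x with h1 | h1 | h1
  · exact absurd h1 h
  · change sg r x = 1 at h1
    rw [h1, Int.cast_one]; exact one_ne_zero
  · change sg r x = -1 at h1
    rw [h1, Int.cast_neg, Int.cast_one]; exact neg_ne_zero.2 one_ne_zero

/-- Matrices commuting with all the `N_r` are scalar. -/
theorem scalar_of_comm {F : Type*} [Field F] {g : Matrix I27 I27 F}
    (h : ∀ r < 72, g * Nm F r = Nm F r * g) : g = diagonal fun _ => g (dec 0) (dec 0) := by
  -- off diagonal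
  have hoff : ∀ x y, x ≠ y → g x y = 0 := by
    intro x y hxy
    obtain ⟨r, h1, h2⟩ := chk_sep x y hxy
    have h3 : g * (Nm F r * Nm F (71 - r)) = (Nm F r * Nm F (71 - r)) * g := by
      rw [← mul_assoc, h r r.2, mul_assoc, h (71 - r) (by omega), ← mul_assoc]
    rw [Nm_mul_opp r.2] at h3
    have h4 := congrFun (congrFun h3 x) y
    rw [mul_diagonal, diagonal_mul, ind_of_ne h1, ind_of_eq h2] at h4
    simpa using h4.symm
  have hstep : ∀ (r : ℕ), r < 72 → ∀ x : I27, sg r x ≠ 0 → g x x = g (sr r x) (sr r x) := by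
    intro r hr x hx
    have h3 := congrFun (congrFun (h r hr) x) (sr r x)
    rw [Nm_mul_apply, mul_apply, Finset.sum_eq_single x] at h3
    · rw [Nm_apply, if_pos rfl, mul_comm] at h3
      exact mul_left_cancel₀ (sg_ne_zero hr hx) h3
    · intro z _ hz
      rw [hoff x z hz.symm, zero_mul]
    · intro h; exact absurd (Finset.mem_univ _) h
  ext x y
  rcases eq_or_ne x y with rfl | hxy
  · rw [diagonal_apply_eq]
    obtain ⟨r, h1 | ⟨s, h1, h2, h3⟩⟩ := chk_conn x
    · rcases h1 with h1 | ⟨h1, h2⟩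
      · rw [h1]
      · rw [hstep r r.2 x h1, h2]
    · rw [hstep r r.2 x h1, hstep s s.2 _ h2, h3]
  · rw [diagonal_apply_ne _ hxy, hoff x y hxy]

theorem pow_eq_one_of_ker {F : Type*} [Field F] [Fintype F] {g : Zgrp F} (hg : g ∈ (ad F).ker) :
    g ^ (Fintype.card F - 1) = 1 := by
  have h0 : ∀ r < 72, ((g : GL I27 F) : Matrix I27 I27 F) * Nm F r =
      Nm F r * ((g : GL I27 F) : Matrix I27 I27 F) := fun r hr =>
    comm_B_of_ker (MonoidHom.mem_ker.1 hg) (Sum.inr ⟨r, hr⟩)
  have h1 := scalar_of_comm h0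
  have hc : ((g : GL I27 F) : Matrix I27 I27 F) (dec 0) (dec 0) ≠ 0 := by
    intro hc
    rw [hc] at h1
    have h2 : ((g : GL I27 F) : Matrix I27 I27 F) = 0 := by
      rw [h1]; ext i j; simp [diagonal_apply]
    have h3 := (g : GL I27 F).isUnit
    rw [h2] at h3
    exact not_isUnit_zero h3
  apply Subtype.ext
  apply Units.ext
  change (((g : GL I27 F) ^ (Fintype.card F - 1) : GL I27 F) : Matrix I27 I27 F) = 1
  rw [Units.val_pow_eq_pow_val, h1, diagonal_pow, ← diagonal_one]
  congr 1
  funext i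
  rw [Pi.pow_apply]
  exact FiniteField.pow_card_sub_one_eq_one _ hc

/-- A criterion for subgroups of `E₆(q)`. -/
theorem not_orat_sub_e6 {F : Type*} [Field F] [Fintype F] {H : Subgroup (GL chevE6.Idx F)}
    (hH : H ≤ chevE6.group F) {r : ℕ} (hr : r.Prime) (hrF : ¬ r ∣ Fintype.card F)
    (hr1 : ¬ r ∣ Fintype.card F - 1) (hrH : r ∣ Nat.card H) (h28 : 28 < r) {n : ℕ}
    (hn : r.Coprime n) : ¬ ORat n H := by
  intro h
  -- the preimage
  let φ : Zgrp F →* GL chevE6.Idx F := (chevE6.group F).subtype.comp (ad F)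
  let L : Subgroup (Zgrp F) := H.comap φ
  let ψ : L →* H := (φ.comp L.subtype).codRestrict H (fun x => x.2)
  have hψ : Function.Surjective ψ := by
    rintro ⟨y, hy⟩
    obtain ⟨x, hx⟩ := ad_surjective ⟨y, hH hy⟩
    have hx' : φ x = y := congrArg Subtype.val hx
    refine ⟨⟨x, by change φ x ∈ H; rw [hx']; exact hy⟩, Subtype.ext hx'⟩
  have hker : ∀ x : L, x ∈ ψ.ker → (x : Zgrp F) ∈ (ad F).ker := by
    intro x hx
    rw [MonoidHom.mem_ker] at hx ⊢
    have h1 : φ x = 1 := congrArg Subtype.val hx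
    exact Subtype.ext h1
  have e := QuotientGroup.quotientKerEquivOfSurjective ψ hψ
  have h2 : ORat n (L ⧸ ψ.ker) := h.of_equiv e.symm
  have hFact : Fact r.Prime := ⟨hr⟩
  have hrk : ¬ r ∣ Nat.card ψ.ker := by
    intro hd
    obtain ⟨x, hx⟩ := exists_prime_orderOf_dvd_card' (G := ψ.ker) r hd
    have h3 := pow_eq_one_of_ker (hker x.1 x.2)
    have h4 : x ^ (Fintype.card F - 1) = 1 := by
      apply Subtype.ext; apply Subtype.ext; exact h3
    exact hr1 (hx ▸ orderOf_dvd_of_pow_eq_one h4)
  have hcz : ψ.ker ≤ Subgroup.center L := by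
    intro x hx
    rw [Subgroup.mem_center_iff]
    intro y
    have h3 := hker x hx
    rw [ker_ad, Subgroup.mem_center_iff] at h3
    exact Subtype.ext (h3 y)
  refine not_orat_of_rep ((Zgrp F).subtype.comp L.subtype) hr
    (natCast_ne_zero_of_not_dvd_card hr hrF) ?_ ?_ ψ.ker hcz hrk ?_ hn h2
  · exact hrH.trans (Subgroup.card_dvd_of_surjective ψ hψ)
  · rw [(MonoidHom.ker_eq_bot_iff _).2 (Subtype.val_injective.comp Subtype.val_injective),
      Subgroup.card_bot]
    exact hr.one_lt.ne' ∘ Nat.dvd_one.1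
  · have : Fintype.card I27 = 27 := by decide
    omega

/-- `E₆(2)` -/
theorem not_ratl_e6 {F : Type*} [Field F] [Fintype F] : ¬ Ratl (chevE6.group F) := by
  intro h
  have hq := card_e6 h
  have hc := S1063.result (F := F) rfl
  refine not_orat_sub_e6 (F := F) (H := chevE6.group F) le_rfl (r := 73) (by norm_num)
    (by rw [hq]; decide) (by rw [hq]; decide) ?_ (by decide) (Nat.coprime_one_right _) (h.orat 1)
  have h1 : (73 : ℕ) ∣ Nat.gcd 3 (Fintype.card F - 1) * Nat.card ↥(chevE6.group F) := by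
    rw [hc, hq]; decide +kernel
  rw [hq] at h1
  simpa using h1

end Cfsg.Agent.H689
end
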