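import Mathlib
import Cfsg.Agent.H689.ExcSix
import Cfsg.Agent.ChevalleyStructure.E6H1
import Cfsg.Agent.ChevalleyStructure.D4H1
import Cfsg.Agent.CpAutTwD.Row
import Cfsg.Agent.S1066
import Cfsg.Agent.S1067
import Cfsg.Agent.ChevalleyStructure.GraphF4
import Cfsg.Agent.ChevalleyStructure.TwF4.Fix
import Cfsg.Agent.H62.PCGeo
import Cfsg.Agent.S0243
import Cfsg.Agent.S0245
import Cfsg.Agent.S0246
import Cfsg.Agent.S0279
import Cfsg.Agent.S0280
import Cfsg.Prelude.Def_Classical
import Cfsg.Agent.OddHalf.D9.FFour.Out_m3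
import Cfsg.Agent.LieRecognition.ReeSevenGroup
import Cfsg.Agent.BpSpor.Act
import Cfsg.Agent.S0587
import Cfsg.Prelude.Def_CaseTheorems
import Cfsg.Agent.Prune
set_option linter.all false

section
prune_inst 0x7f00000000000000000000000000000000000000000000000000000000000000000000000000000000000000000000000000000000000000000000000000000000000000000000000000000000000000003fffffffffffffffffffffffffffbeffbdffffffff

-- part: H689/TEight
section
set_option linter.all false
open scoped Cfsg.Agent.FastGrp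

-- part: H689/Exc3
section
/-!
# The groups of type `²E₆(q)`, `q ≥ 3`, and `³D₄(q)`
-/

set_option autoImplicit false
set_option linter.unusedSectionVars false

open Cfsg Cfsg.Lie Matrix
open Cfsg.Agent.ChevalleyStructure.TorusRange Cfsg.Agent.ChevalleyStructure.TorusCount
open Cfsg.Agent.ChevalleyStructure

namespace Cfsg.Agent.H689

universe u

/-- An element of order `q - 1` in the units of the field of order `q ^ k`. -/
theorem exists_unit_order {K : Type*} [Field K] [Fintype K] {q k : ℕ} (hq : 2 ≤ q) (hk : 1 ≤ k)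
    (hK : Fintype.card K = q ^ k) : ∃ u : Kˣ, orderOf u = q - 1 := by
  obtain ⟨w, hw⟩ := IsCyclic.exists_generator (α := Kˣ)
  have how : orderOf w = q ^ k - 1 := by
    classical
    rw [orderOf_eq_card_of_forall_mem_zpowers hw, Nat.card_eq_fintype_card, Fintype.card_units, hK]
  have hd : q - 1 ∣ q ^ k - 1 := by
    simpa using Nat.sub_dvd_pow_sub_pow q 1 k
  obtain ⟨c, hc⟩ := hd
  have h1 : 1 < q ^ k := Nat.one_lt_pow (by omega) hq
  have hc0 : c ≠ 0 := by
    rintro rfl
    omega
  refine ⟨w ^ c, ?_⟩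
  rw [orderOf_pow, how, hc, Nat.gcd_eq_right (Dvd.intro_left _ rfl)]
  exact Nat.mul_div_cancel _ (Nat.pos_of_ne_zero hc0)

theorem te6_torus {K : Type*} [Field K] [Fintype K] {q : ℕ} (hq : IsPrimePow q)
    (hK : Fintype.card K = q ^ 2) (h : ORat 1 (twistedE6 K q)) :
    q = 2 ∨ q = 3 ∨ q = 4 ∨ q = 5 ∨ q = 7 := by
  have hq2 := hq.two_le
  obtain ⟨φ, hφ, -⟩ := TwE6Basic.exists_frob hq hK
  obtain ⟨u, hu⟩ := exists_unit_order hq2 (by norm_num) hK
  have hD : chevE6 ∈ [chevG2, chevB2, chevD4, chevF4, chevE6, chevE7, chevE8] := by simp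
  have hA : SimpleDiag chevE6 K := fun i hi c hc => S1033.result chevE6 hD i hi c hc
  have hfix : φ (u : K) = u := by
    rw [hφ]
    have h1 : u ^ q = u := by
      calc u ^ q = u ^ (orderOf u + 1) := by rw [hu]; congr 1; omega
        _ = u := by rw [pow_succ, pow_orderOf_eq_one, one_mul]
    exact congrArg Units.val h1
  have hmem := E6Fixed.h_single_mem (r := 46) hφ (by simp) (by decide) hfix
  have key := torus_units_gen (D := chevE6) (i := 1)
    (by rw [Nat.card_eq_fintype_card]; decide +kernel)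
    (by rw [Nat.card_eq_fintype_card]; decide +kernel) (by decide +kernel) h u (by omega)
    (Nat.coprime_one_right _) _ hmem (by
      rw [← show chevE6.simple 1 = 46 from rfl]
      rw [← hA 1 (by decide) u (Units.ne_zero u)]
      exact (Elts.eq_hG_iff _ _ _ _).1 rfl)
  omega

/-- `²E₆(q)`, `q ≥ 3` -/
theorem card_te6 {K : Type*} [Field K] [Fintype K] {q : ℕ} (hq : IsPrimePow q)
    (hK : Fintype.card K = q ^ 2) (h : Ratl (twistedE6 K q)) : q = 2 := by
  have h1 := h.orat 1
  have hc := S1066.result hq hK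
  have key : ∀ r : ℕ, r.Prime → 28 < r → ¬ r ∣ Fintype.card K → ¬ r ∣ Fintype.card K - 1 →
      r ∣ Nat.gcd 3 (q + 1) * Nat.card ↥(twistedE6 K q) → False := by
    intro r hr hlt hrq hrq1 hd
    refine not_orat_sub_e6 (H898.NotIn.twisted_le_group q) hr hrq hrq1 ?_ hlt
      (Nat.coprime_one_right _) h1
    refine (Nat.Coprime.dvd_mul_left ?_).1 hd
    refine Nat.Coprime.coprime_dvd_right (Nat.gcd_dvd_left _ _) ?_
    exact (Nat.coprime_primes hr Nat.prime_three).2 (by omega)
  rcases te6_torus hq hK h1 with rfl | rfl | rfl | rfl | rfl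
  · rfl
  · exact (key 37 (by norm_num) (by decide) (by rw [hK]; decide) (by rw [hK]; decide)
      (by rw [hc]; decide +kernel)).elim
  · exact (key 241 (by norm_num) (by decide) (by rw [hK]; decide) (by rw [hK]; decide)
      (by rw [hc]; decide +kernel)).elim
  · exact (key 601 (by norm_num) (by decide) (by rw [hK]; decide) (by rw [hK]; decide)
      (by rw [hc]; decide +kernel)).elim
  · exact (key 181 (by norm_num) (by decide) (by rw [hK]; decide) (by rw [hK]; decide)
      (by rw [hc]; decide +kernel)).elim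

/-- `³D₄(q)` -/
theorem not_ratl_td4 {K : Type} [Field K] [Fintype K] {q : ℕ} (hq : IsPrimePow q)
    (hK : Fintype.card K = q ^ 3) : ¬ Ratl (twistedD4 K q) := by
  intro hR
  have h := hR.orat 1
  have hq2 := hq.two_le
  obtain ⟨φ, hφ⟩ := D4Fixed.exists_frob hq hK
  obtain ⟨u, hu⟩ := exists_unit_order hq2 (by norm_num) hK
  have hD : chevD4 ∈ [chevG2, chevB2, chevD4, chevF4, chevE6, chevE7, chevE8] := by simp
  have hA : SimpleDiag chevD4 K := fun i hi c hc => S1033.result chevD4 hD i hi c hc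
  have hfix : φ (u : K) = u := by
    rw [hφ]
    have h1 : u ^ q = u := by
      calc u ^ q = u ^ (orderOf u + 1) := by rw [hu]; congr 1; omega
        _ = u := by rw [pow_succ, pow_orderOf_eq_one, one_mul]
    exact congrArg Units.val h1
  have hmem := D4H1.h14_mem hφ hfix
  have key := torus_units_gen (D := chevD4) (i := 1)
    (by rw [Nat.card_eq_fintype_card]; decide +kernel)
    (by rw [Nat.card_eq_fintype_card]; decide +kernel) (by decide +kernel) h u (by omega)
    (Nat.coprime_one_right _) _ hmem (by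
      rw [← show chevD4.simple 1 = 14 from rfl]
      rw [← hA 1 (by decide) u (Units.ne_zero u)]
      exact D4Cols.coe_wU _)
  have hc := S1067.result hq hK
  have key2 : ∀ r : ℕ, r.Prime → 29 < r → ¬ r ∣ Fintype.card K →
      r ∣ Nat.card ↥(twistedD4 K q) → False := by
    intro r hr hlt hrq hd
    refine not_orat_of_inj (twistedD4 K q).subtype Subtype.val_injective hr
      (natCast_ne_zero_of_not_dvd_card hr hrq) hd ?_ (Nat.coprime_one_right _) h
    have : Fintype.card chevD4.Idx = 28 := by decide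
    omega
  have hq' : q = 2 ∨ q = 3 ∨ q = 4 ∨ q = 5 ∨ q = 7 := by omega
  rcases hq' with rfl | rfl | rfl | rfl | rfl
  · have h2 : (2 : K) = 0 := by
      have h3 : (Fintype.card K : K) = 0 := FiniteField.cast_card_eq_zero K
      rw [hK, Nat.cast_pow, Nat.cast_ofNat] at h3
      exact (pow_eq_zero_iff (by norm_num)).1 h3
    obtain ⟨ρ, hρ, -⟩ := CpAutTwD.Emb.exists_rho h2 (q := 2)
    exact not_orat_of_inj ρ hρ (r := 13) (by norm_num)
      (natCast_ne_zero_of_not_dvd_card (by norm_num) (by rw [hK]; decide))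
      (by rw [hc]; decide +kernel) (by decide) (Nat.coprime_one_right _) h
  · exact key2 73 (by norm_num) (by decide) (by rw [hK]; decide) (by rw [hc]; decide +kernel)
  · exact key2 241 (by norm_num) (by decide) (by rw [hK]; decide) (by rw [hc]; decide +kernel)
  · exact key2 601 (by norm_num) (by decide) (by rw [hK]; decide) (by rw [hc]; decide +kernel)
  · exact key2 181 (by norm_num) (by decide) (by rw [hK]; decide) (by rw [hc]; decide +kernel)

end Cfsg.Agent.H689
end

-- part: H689/ExcF4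
section
/-!
# `F₄(2)`: the graph automorphism moves the class of long root elements
-/

set_option autoImplicit false
set_option linter.unusedSectionVars false

open Cfsg Cfsg.Lie Matrix
open Cfsg.Agent.ChevalleyStructure Cfsg.Agent.ChevalleyStructure.TwF4.Fix
  Cfsg.Agent.ChevalleyStructure.TwF4.Tables Cfsg.Agent.ChevalleyStructure.TwF4.Rel

namespace Cfsg.Agent.H689

universe u

theorem rank_le_of_cols {n F : Type*} [Field F] [Fintype n] [DecidableEq n] (M : Matrix n n F)
    (J : Finset n) (h : ∀ i, ∀ j ∉ J, M i j = 0) : M.rank ≤ J.card := by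
  classical
  have h1 : M = M * diagonal (fun j => if j ∈ J then (1 : F) else 0) := by
    ext i j
    rw [mul_diagonal]
    by_cases hj : j ∈ J
    · rw [if_pos hj, mul_one]
    · rw [if_neg hj, mul_zero, h i j hj]
  rw [h1]
  refine (rank_mul_le_right _ _).trans ?_
  rw [rank_diagonal, Fintype.card_subtype]
  refine Finset.card_le_card ?_
  intro j hj
  rw [Finset.mem_filter] at hj
  by_contra hj2
  exact hj.2 (if_neg hj2)

theorem le_rank_of_submatrix {n F : Type*} [Field F] [Fintype n] [DecidableEq n] (M : Matrix n n F)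
    {k : ℕ} (f g : Fin k → n) (h : M.submatrix f g = 1) : k ≤ M.rank := by
  let P : Matrix (Fin k) n F := Matrix.of fun i j => if j = f i then 1 else 0
  let Q : Matrix n (Fin k) F := Matrix.of fun i j => if i = g j then 1 else 0
  have h1 : P * M * Q = 1 := by
    rw [← h]
    ext i j
    simp [P, Q, mul_apply]
  have h2 : (P * M * Q).rank ≤ M.rank :=
    (rank_mul_le_left _ _).trans (rank_mul_le_right _ _)
  rw [h1, rank_one, Fintype.card_fin] at h2
  exact h2

theorem not_ratl_f4 {F : Type*} [Field F] [Fintype F] : ¬ Ratl (chevF4.group F) := by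
  intro h
  have hq := card_f4 h
  have hchar : CharP F 2 := by
    obtain ⟨p, hp⟩ := CharP.exists F
    have hpp : p.Prime := CharP.char_is_prime F p
    obtain ⟨n, _, hn⟩ := FiniteField.card F p
    rw [hq] at hn
    have : p ∣ 2 := hn ▸ dvd_pow_self p n.ne_zero
    have := (Nat.prime_dvd_prime_iff_eq hpp Nat.prime_two).1 this
    subst this
    exact hp
  obtain ⟨α, hα⟩ := GraphF4.exists_graph (K := F) (fun x => ⟨x, by
    have := FiniteField.pow_card x
    rwa [hq] at this⟩)
  have hD : Elts.InList chevF4 := by simp [Elts.InList]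
  let x : chevF4.group F := ⟨Elts.xG hD 0 1, Elts.xG_mem_group hD 0 1⟩
  have hx : ((x : GL chevF4.Idx F) : Matrix chevF4.Idx chevF4.Idx F) = chevF4.x F 0 1 := Elts.coe_xG hD _ _
  have hy := hα x 0 1 (by norm_num) hx
  rw [show GraphTabF4.tabF4.bar.getD 0 0 = 3 by decide +kernel, one_pow] at hy
  obtain ⟨g, hg⟩ := isConj_iff.1 (h.aut α x)
  have hblk : ∀ g ∈ chevF4.group F, Blk (g : Matrix chevF4.Idx chevF4.Idx F) := by
    have h1 : chevF4.group F ≤ BlkG F := by
      unfold ChevalleyDatum.group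
      rw [Subgroup.closure_le]
      rintro g ⟨r, t, hg⟩
      change g ∈ BlkG F
      rw [mem_BlkG, hg, ← Elts.x_of_lt r.2 t]
      exact x_Blk r.val t
    exact fun g hg => (mem_BlkG g).1 (h1 hg)
  set Mx : Matrix chevF4.Idx chevF4.Idx F := ((x : GL chevF4.Idx F) : Matrix chevF4.Idx chevF4.Idx F) with hMx
  set My : Matrix chevF4.Idx chevF4.Idx F :=
    (((α x : chevF4.group F) : GL chevF4.Idx F) : Matrix chevF4.Idx chevF4.Idx F) with hMy
  set Mg : Matrix chevF4.Idx chevF4.Idx F := ((g : GL chevF4.Idx F) : Matrix chevF4.Idx chevF4.Idx F) with hMg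
  have e1 : Mg * Mx = My * Mg := by
    rw [hMg, hMx, hMy, ← Units.val_mul, ← Units.val_mul, ← Subgroup.coe_mul, ← Subgroup.coe_mul,
      ← hg, inv_mul_cancel_right]
  have bx : Blk Mx := hblk _ x.2
  have bg : Blk Mg := hblk _ g.2
  have e2 : Amat Mg * Amat Mx = Amat My * Amat Mg := by
    rw [← Amat_mul bx, ← Amat_mul bg, e1]
  have e3 : Amat Mg * (Amat Mx - 1) = (Amat My - 1) * Amat Mg := by
    rw [mul_sub, sub_mul, e2, mul_one, one_mul]
  have hu : IsUnit (Amat Mg).det := by
    have h1 : Amat Mg * Amat (((g⁻¹ : chevF4.group F) : GL chevF4.Idx F) :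
        Matrix chevF4.Idx chevF4.Idx F) = 1 := by
      rw [← Amat_mul (hblk _ (g⁻¹).2), hMg, ← Units.val_mul, ← Subgroup.coe_mul, mul_inv_cancel]
      exact Amat_one
    exact IsUnit.of_mul_eq_one _ (by rw [← det_mul, h1, det_one])
  have hrk : (Amat Mx - 1).rank = (Amat My - 1).rank := by
    rw [← rank_mul_eq_right_of_isUnit_det (Amat Mg) _ hu, e3,
      rank_mul_eq_left_of_isUnit_det (Amat Mg) _ hu]
  have h6 : (Amat Mx - 1).rank ≤ 6 := by
    refine rank_le_of_cols (Amat Mx - 1) ({16, 20, 22, 23, 24, 25} : Finset (Fin 26)) ?_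
    have hb : ∀ i : Fin 26, ∀ j ∉ ({16, 20, 22, 23, 24, 25} : Finset (Fin 26)),
        (PE 0).testBit (52 * nthN ioN i.val + nthN ioN j.val) = false ∧
        (PF 0).testBit (52 * nthN ioN i.val + nthN ioN j.val) = false := by
      decide +kernel
    intro i j hj
    obtain ⟨h1, h2⟩ := hb i j hj
    rw [Matrix.sub_apply, Amat_apply, hx, x_entry 0 (by norm_num), pos_io, pos_io, h1, h2,
      Matrix.one_apply]
    simp [io_inj.eq_iff]
  have h8 : 8 ≤ (Amat My - 1).rank := by
    refine le_rank_of_submatrix (Amat My - 1) (k := 8) ![1, 2, 3, 4, 5, 6, 7, 8]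
      ![17, 18, 19, 20, 21, 22, 23, 24] ?_
    have hb : ∀ i j : Fin 8,
        (PE 3).testBit (52 * nthN ioN ((![1, 2, 3, 4, 5, 6, 7, 8] : Fin 8 → Fin 26) i).val +
          nthN ioN ((![17, 18, 19, 20, 21, 22, 23, 24] : Fin 8 → Fin 26) j).val) =
          decide (i = j) ∧
        (PF 3).testBit (52 * nthN ioN ((![1, 2, 3, 4, 5, 6, 7, 8] : Fin 8 → Fin 26) i).val +
          nthN ioN ((![17, 18, 19, 20, 21, 22, 23, 24] : Fin 8 → Fin 26) j).val) = false ∧
        (![1, 2, 3, 4, 5, 6, 7, 8] : Fin 8 → Fin 26) i ≠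
          (![17, 18, 19, 20, 21, 22, 23, 24] : Fin 8 → Fin 26) j := by
      decide +kernel
    ext i j
    obtain ⟨h1, h2, h3⟩ := hb i j
    rw [submatrix_apply, Matrix.sub_apply, Amat_apply, hy, x_entry 3 (by norm_num), pos_io, pos_io, h1, h2,
      Matrix.one_apply, if_neg h3, if_neg (fun e => h3 (io_inj e))]
    simp [Matrix.one_apply]
  omega

end Cfsg.Agent.H689
end

-- part: H689/ClaLin
section
/-!
# Linear, unitary and symplectic groups are not rational
-/

set_option autoImplicit false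
set_option linter.unusedSectionVars false

open Cfsg Matrix

namespace Cfsg.Agent.H689

universe u

theorem ne_zero_of_ppd {F : Type*} [Field F] [Fintype F] {k r : ℕ}
    (h : Ppd (Fintype.card F) k r) : (r : F) ≠ 0 := by
  intro h0
  have h1 : ringChar F ∣ r := (ringChar.spec F r).1 h0
  have h2 : ringChar F ≠ 1 := CharP.ringChar_ne_one
  have h3 : ringChar F = r := ((Nat.dvd_prime h.prime).1 h1).resolve_left h2
  apply h.not_dvd
  rw [← h3]
  have h4 : ((Fintype.card F : ℕ) : F) = 0 := FiniteField.cast_card_eq_zero F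
  exact (ringChar.spec F _).1 h4

/-- the characteristic is prime to `r` -/
theorem coprime_of_ppd {F : Type*} [Field F] [Fintype F] {k r : ℕ}
    (h : Ppd (Fintype.card F) k r) (p : ℕ) [CharP F p] : r.Coprime p := by
  rw [Nat.Prime.coprime_iff_not_dvd h.prime]
  intro h1
  have hp : p.Prime := CharP.char_is_prime F p
  have h4 : r = p := ((Nat.dvd_prime hp).1 h1).resolve_left h.prime.one_lt.ne'
  apply ne_zero_of_ppd h
  rw [h4]
  exact CharP.cast_eq_zero F p

theorem not_dvd_card_center_sl {F : Type*} [Field F] [Fintype F] (n : ℕ) {r : ℕ}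
    (h : ¬ r ∣ Fintype.card F - 1) :
    ¬ r ∣ Nat.card (Subgroup.center (SpecialLinearGroup (Fin n) F)) := by
  classical
  intro h1
  apply h
  refine h1.trans ?_
  have e := Matrix.SpecialLinearGroup.center_equiv_rootsOfUnity (n := Fin n) (R := F)
  have hc : Nat.card Fˣ = Fintype.card F - 1 := by
    rw [Nat.card_eq_fintype_card, Fintype.card_units]
  rw [Nat.card_congr e.toEquiv, ← hc]
  exact Subgroup.card_subgroup_dvd_card (rootsOfUnity _ F)

/-- `PSL n q`, `n ≥ 3`. -/
theorem not_orat_psl {F : Type} [Field F] [Fintype F] (p : ℕ) [CharP F p] {n : ℕ} (hn : 3 ≤ n) :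
    ¬ ORat p (ProjectiveSpecialLinearGroup (Fin n) F) := by
  classical
  obtain ⟨k, hk3, hkn, ho, hk2⟩ : ∃ k, 3 ≤ k ∧ k ≤ n ∧ Odd k ∧ n ≤ k + 1 := by
    rcases Nat.even_or_odd n with h | h
    · obtain ⟨j, hj⟩ := h
      exact ⟨n - 1, by omega, by omega, ⟨j - 1, by omega⟩, by omega⟩
    · exact ⟨n, hn, le_rfl, h, by omega⟩
  have hq : 2 ≤ Fintype.card F := Fintype.one_lt_card
  obtain ⟨r, hr⟩ := exists_ppd hq hk3 (by rintro ⟨-, h2⟩; subst h2; revert ho; decide)
  have hrl := hr.le_odd hk3 ho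
  have hdvd : r ∣ Nat.card (ProjectiveSpecialLinearGroup (Fin n) F) := by
    have h := S0243.result (F := F) rfl n (by omega)
    have h1 : r ∣ ∏ i : Fin n, (Fintype.card F ^ n - Fintype.card F ^ (i : ℕ)) := by
      refine Dvd.dvd.trans ?_ (Finset.dvd_prod_of_mem _ (Finset.mem_univ (⟨n - k, by omega⟩ : Fin n)))
      have h2 : Fintype.card F ^ n - Fintype.card F ^ (n - k) =
          Fintype.card F ^ (n - k) * (Fintype.card F ^ k - 1) := by
        rw [Nat.mul_sub, ← pow_add, mul_one, Nat.sub_add_cancel hkn]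
      simp only
      rw [h2]
      exact ((hr.iff k).2 dvd_rfl).mul_left _
    rw [← h] at h1
    have h3 : ¬ r ∣ Nat.gcd n (Fintype.card F - 1) := fun h4 =>
      hr.not_dvd_sub_one (by omega) (h4.trans (Nat.gcd_dvd_right _ _))
    have h5 := (hr.prime.dvd_mul.1 h1).resolve_left h3
    exact (hr.prime.dvd_mul.1 h5).resolve_left (hr.not_dvd_sub_one (by omega))
  have hdvd' : r ∣ Nat.card (SpecialLinearGroup (Fin n) F) :=
    hdvd.trans (Subgroup.card_quotient_dvd_card _)
  refine not_orat_of_rep (L := SpecialLinearGroup (Fin n) F)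
    (SpecialLinearGroup.toGL (n := Fin n) (R := F)) hr.prime (ne_zero_of_ppd hr) hdvd' ?_
    (Subgroup.center _) le_rfl (not_dvd_card_center_sl n (hr.not_dvd_sub_one (by omega))) ?_
    (coprime_of_ppd hr p)
  · have h1 : (SpecialLinearGroup.toGL (n := Fin n) (R := F)).ker = ⊥ := by
      rw [MonoidHom.ker_eq_bot_iff]
      exact SpecialLinearGroup.toGL_injective
    rw [h1, Subgroup.card_bot]
    exact fun h => hr.prime.one_lt.ne' (Nat.dvd_one.1 h)
  · rw [Fintype.card_fin]
    omega

/-- `PSU n q`, `n ≥ 3`, `(n, q) ≠ (3, 2), (4, 2)`. -/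
theorem not_orat_psu {F : Type} [Field F] [Fintype F] (p : ℕ) [CharP F p] {n q : ℕ}
    (hF : Fintype.card F = q ^ 2) (hn : 3 ≤ n) (h2 : ¬ (q = 2 ∧ n ≤ 4)) :
    ¬ ORat p (PSU n F q) := by
  classical
  obtain ⟨k, hk3, hkn, ho, hk2⟩ : ∃ k, 3 ≤ k ∧ k ≤ n ∧ Odd k ∧ n ≤ k + 1 := by
    rcases Nat.even_or_odd n with h | h
    · obtain ⟨j, hj⟩ := h
      exact ⟨n - 1, by omega, by omega, ⟨j - 1, by omega⟩, by omega⟩
    · exact ⟨n, hn, le_rfl, h, by omega⟩
  have hq : 2 ≤ q := by
    have h1 : 1 < Fintype.card F := Fintype.one_lt_card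
    rw [hF] at h1
    by_contra h3
    have : q = 0 ∨ q = 1 := by omega
    rcases this with rfl | rfl <;> simp at h1
  obtain ⟨r, hr⟩ := exists_ppd (k := 2 * k) hq (by omega) (by
    rintro ⟨h3, h4⟩
    apply h2
    refine ⟨h3, ?_⟩
    have : k = 3 := by omega
    omega)
  have hrl := hr.le (by omega)
  have hrq : r ∣ q ^ k + 1 := hr.dvd_add_one (by omega)
  have hr1 : ¬ r ∣ q + 1 := by
    intro h3
    have h4 : r ∣ q ^ 2 - 1 := by
      have := Nat.sq_sub_sq q 1
      rw [one_pow] at this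
      rw [this]
      exact h3.mul_right _
    have := (hr.iff 2).1 h4
    have := Nat.le_of_dvd (by omega) this
    omega
  have hrF : (r : F) ≠ 0 := by
    intro h0
    have h1 : ringChar F ∣ r := (ringChar.spec F r).1 h0
    have h2 : ringChar F ≠ 1 := CharP.ringChar_ne_one
    have h3 : ringChar F = r := ((Nat.dvd_prime hr.prime).1 h1).resolve_left h2
    apply hr.not_dvd
    refine hr.prime.dvd_of_dvd_pow (n := 2) ?_
    rw [← hF, ← h3]
    have h4 : ((Fintype.card F : ℕ) : F) = 0 := FiniteField.cast_card_eq_zero F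
    exact (ringChar.spec F _).1 h4
  have hrp : r.Coprime p := by
    rw [Nat.Prime.coprime_iff_not_dvd hr.prime]
    intro h1
    have h4 : r = p := ((Nat.dvd_prime (CharP.char_is_prime F p)).1 h1).resolve_left
      hr.prime.one_lt.ne'
    apply hrF
    rw [h4]
    exact CharP.cast_eq_zero F p
  have hdvd : r ∣ Nat.card (PSU n F q) := by
    have h := S0280.result hF n (by omega)
    have h1 : r ∣ q ^ (n * (n - 1) / 2) * ∏ i ∈ Finset.range n,
        (if Even i then q ^ (i + 1) + 1 else q ^ (i + 1) - 1) := by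
      refine Dvd.dvd.mul_left ?_ _
      refine Dvd.dvd.trans ?_ (Finset.dvd_prod_of_mem _ (Finset.mem_range.2
        (show k - 1 < n by omega)))
      have h3 : Even (k - 1) := by obtain ⟨j, hj⟩ := ho; exact ⟨j, by omega⟩
      rw [if_pos h3, Nat.sub_add_cancel (by omega)]
      exact hrq
    rw [← h] at h1
    have h3 : ¬ r ∣ Nat.gcd n (q + 1) := fun h4 => hr1 (h4.trans (Nat.gcd_dvd_right _ _))
    have h5 := (hr.prime.dvd_mul.1 h1).resolve_left h3
    exact (hr.prime.dvd_mul.1 h5).resolve_left hr1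
  have hdvd' : r ∣ Nat.card (SU n F q) := hdvd.trans (Subgroup.card_quotient_dvd_card _)
  refine not_orat_of_rep (L := SU n F q)
    ((SpecialLinearGroup.toGL (n := Fin n) (R := F)).comp (SU n F q).subtype) hr.prime hrF hdvd' ?_
    (Subgroup.center _) le_rfl ?_ ?_ hrp
  · have h1 : ((SpecialLinearGroup.toGL (n := Fin n) (R := F)).comp (SU n F q).subtype).ker = ⊥ := by
      rw [MonoidHom.ker_eq_bot_iff]
      exact SpecialLinearGroup.toGL_injective.comp (SU n F q).subtype_injective
    rw [h1, Subgroup.card_bot]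
    exact fun h => hr.prime.one_lt.ne' (Nat.dvd_one.1 h)
  · rw [S0279.result hF n hn]
    exact fun h4 => hr1 (h4.trans (Nat.gcd_dvd_right _ _))
  · rw [Fintype.card_fin]
    omega

/-- `PSp (2m) q`, `m ≥ 3`, `(m, q) ≠ (3, 2), (4, 2)`. -/
theorem not_orat_psp {F : Type} [Field F] [Fintype F] (p : ℕ) [CharP F p] {m : ℕ} (hm : 3 ≤ m)
    (h2 : ¬ (Fintype.card F = 2 ∧ m ≤ 4)) : ¬ ORat p (PSp m F) := by
  classical
  obtain ⟨k, hk3, hkm, ho, hk2⟩ : ∃ k, 3 ≤ k ∧ k ≤ m ∧ Odd k ∧ m ≤ k + 1 := by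
    rcases Nat.even_or_odd m with h | h
    · obtain ⟨j, hj⟩ := h
      exact ⟨m - 1, by omega, by omega, ⟨j - 1, by omega⟩, by omega⟩
    · exact ⟨m, hm, le_rfl, h, by omega⟩
  have hq : 2 ≤ Fintype.card F := Fintype.one_lt_card
  obtain ⟨r, hr, hrl⟩ := exists_large hq hk3 ho (by
    rintro ⟨h3, h4⟩
    exact h2 ⟨h3, by omega⟩)
  obtain ⟨k', hk', hr, hd⟩ : ∃ k', 3 ≤ k' ∧ Ppd (Fintype.card F) k' r ∧ k' ∣ 2 * k := by
    rcases hr with hr | hr
    · exact ⟨k, hk3, hr, Dvd.intro_left _ rfl⟩
    · exact ⟨2 * k, by omega, hr, dvd_rfl⟩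
  have hdvd' : r ∣ Nat.card (symplecticGroup (Fin m) F) := by
    rw [S0245.result (F := F) rfl m]
    refine Dvd.dvd.mul_left ?_ _
    refine Dvd.dvd.trans ?_ (Finset.dvd_prod_of_mem _ (Finset.mem_range.2
      (show k - 1 < m by omega)))
    rw [Nat.sub_add_cancel (by omega)]
    exact (hr.iff _).2 hd
  refine not_orat_of_rep (L := symplecticGroup (Fin m) F) (d := Fin m ⊕ Fin m)
    (F := F) ((Units.map ((symplecticGroup (Fin m) F).subtype)).comp toUnits.toMonoidHom)
    hr.prime (ne_zero_of_ppd hr) hdvd' ?_ (Subgroup.center _) le_rfl ?_ ?_ (coprime_of_ppd hr p)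
  · have h1 : ((Units.map ((symplecticGroup (Fin m) F).subtype)).comp
        (toUnits (G := symplecticGroup (Fin m) F)).toMonoidHom).ker = ⊥ := by
      rw [MonoidHom.ker_eq_bot_iff]
      intro a b hab
      exact Subtype.ext (congrArg (fun u : GL (Fin m ⊕ Fin m) F =>
        (u : Matrix (Fin m ⊕ Fin m) (Fin m ⊕ Fin m) F)) hab)
    rw [h1, Subgroup.card_bot]
    exact fun h => hr.prime.one_lt.ne' (Nat.dvd_one.1 h)
  · rw [S0246.result (F := F) rfl m (by omega)]
    exact fun h4 => hr.not_dvd_sub_one (by omega) (h4.trans (Nat.gcd_dvd_right _ _))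
  · rw [Fintype.card_sum, Fintype.card_fin]
    omega

end Cfsg.Agent.H689
end

-- part: H689/ExcTE
section
/-!
# `²E₆(2)` and `G₂(3)`
-/

set_option autoImplicit false
set_option linter.unusedSectionVars false

open Cfsg Cfsg.Lie Matrix
open Cfsg.Agent.TwoESix Cfsg.Agent.TwoESix.LeviA Cfsg.Agent.TwoESix.SheetD
  Cfsg.Agent.TwoESix.LongCard

namespace Cfsg.Agent.H689

universe u

/-- Centralizers of elements of prime order of rational groups. -/
theorem Ratl.cent {G : Type u} [Group G] [Finite G] (h : Ratl G) {z : G} {p : ℕ}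
    (hz : orderOf z = p) : ORat p (Subgroup.centralizer ({z} : Set G)) := by
  have h1 := (h.orat 1).centralizer z (Nat.coprime_one_right _)
  rwa [one_mul, hz] at h1

theorem not_ratl_te6_two {K : Type} [Field K] [Fintype K] (hK : Fintype.card K = 4) :
    ¬ Ratl (twistedE6 K 2) := by
  intro h
  obtain ⟨hc, φ, F⟩ := exists_four K hK
  obtain ⟨ψ, hψ, -⟩ := exists_chart F
  have ho : orderOf (r0 F) = 2 := by
    rw [orderOf_eq_prime_iff]
    exact ⟨by rw [pow_two]; exact LeviF.r0_sq F, LeviF.r0_ne F⟩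
  have h1 := (h.cent ho).of_surjective ψ hψ
  exact not_orat_psu (p := 2) (q := 2) (F := K) (n := 6) (by rw [hK]; norm_num) (by norm_num)
    (by omega) h1

theorem not_ratl_g2_three {F : Type u} [Field F] [Fintype F] (hF : Fintype.card F = 3) :
    ¬ Ratl (chevG2.group F) := by
  intro h
  have hchar : CharP F 3 := by
    obtain ⟨p, hp⟩ := CharP.exists F
    have hpp : p.Prime := CharP.char_is_prime F p
    obtain ⟨n, _, hn⟩ := FiniteField.card F p
    rw [hF] at hn
    have : p ∣ 3 := hn ▸ dvd_pow_self p n.ne_zero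
    have := (Nat.prime_dvd_prime_iff_eq hpp Nat.prime_three).1 this
    subst this
    exact hp
  refine not_orat_of_inj ((LieRecognition.ReeSevenGroup.rho F).comp
    (Subgroup.inclusion LieRecognition.ReeSevenGroup.group_le))
    (LieRecognition.ReeSevenGroup.rho_injective.comp (Subgroup.inclusion_injective _))
    (r := 13) (by norm_num) (natCast_ne_zero_of_not_dvd_card (by norm_num) (by rw [hF]; decide))
    (by rw [S1059.result (F := F) hF]; decide +kernel) (by decide) (Nat.coprime_one_right _)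
    (h.orat 1)

end Cfsg.Agent.H689
end

-- part: H689/TEight
section
/-!
# Sylow arithmetic of rational groups, and groups of characteristic 2 type
-/

set_option autoImplicit false
set_option linter.unusedSectionVars false

open Cfsg

namespace Cfsg.Agent.H689

universe u

theorem sylow_arith {G : Type u} [Group G] [Finite G] {n r : ℕ} (h : ORat n G) (hr : r.Prime)
    (hrn : r.Coprime n) (hd : r ∣ Nat.card G) (hd2 : ¬ r * r ∣ Nat.card G) :
    ∃ x : G, orderOf x = r ∧ ∃ k s : ℕ, Nat.card (Subgroup.centralizer ({x} : Set G)) = r * k ∧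
      Nat.card G = s * ((r - 1) * (r * k)) ∧ s ≡ 1 [MOD r] := by
  have : Fact r.Prime := ⟨hr⟩
  obtain ⟨x, hx⟩ := exists_prime_orderOf_dvd_card' (G := G) r hd
  have hcardP : Nat.card (Subgroup.zpowers x) = r := by rw [Nat.card_zpowers, hx]
  -- the Sylow subgroup
  have hfac : (Nat.card G).factorization r = 1 := by
    have h1 : 1 ≤ (Nat.card G).factorization r :=
      (hr.dvd_iff_one_le_factorization Nat.card_pos.ne').1 hd
    have h2 : ¬ 2 ≤ (Nat.card G).factorization r := by
      intro h2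
      apply hd2
      have := (hr.pow_dvd_iff_le_factorization Nat.card_pos.ne').2 h2
      rwa [pow_two] at this
    omega
  let P : Sylow r G := Sylow.ofCard (Subgroup.zpowers x) (by rw [hcardP, hfac, pow_one])
  have hP : (P : Subgroup G) = Subgroup.zpowers x := rfl
  have hS : Nat.card (Sylow r G) ≡ 1 [MOD r] := card_sylow_modEq_one r G
  have hidx : Nat.card (Sylow r G) = (Subgroup.normalizer ((P : Subgroup G) : Set G)).index :=
    Sylow.card_eq_index_normalizer P
  rw [hP] at hidx
  -- the action of the normalizer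
  have hcyc : IsCyclic (Subgroup.zpowers x) := inferInstance
  have hker : Nat.card (Subgroup.normalizerMonoidHom (Subgroup.zpowers x)).ker =
      Nat.card (Subgroup.centralizer ({x} : Set G)) := by
    rw [Subgroup.normalizerMonoidHom_ker]
    have hle : Subgroup.centralizer ((Subgroup.zpowers x : Subgroup G) : Set G) ≤
        Subgroup.normalizer ((Subgroup.zpowers x : Subgroup G) : Set G) :=
      Subgroup.centralizer_le_normalizer _
    rw [Nat.card_congr (Subgroup.subgroupOfEquivOfLe hle).toEquiv]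
    congr 2
    ext g
    rw [Subgroup.mem_centralizer_iff, Subgroup.mem_centralizer_singleton_iff]
    constructor
    · intro h1
      exact (h1 x (Subgroup.mem_zpowers x)).symm
    · rintro h1 y ⟨i, rfl⟩
      exact ((show Commute x g from h1.symm).zpow_left i).eq
  have hsurj : Function.Surjective (Subgroup.normalizerMonoidHom (Subgroup.zpowers x)) := by
    intro α
    have hxm : x ∈ Subgroup.zpowers x := Subgroup.mem_zpowers x
    obtain ⟨m, hm⟩ : ∃ m : ℕ, x ^ m = (α ⟨x, hxm⟩ : G) := by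
      have := (α ⟨x, hxm⟩).2
      rw [← mem_powers_iff_mem_zpowers] at this
      exact this
    have hm1 : m.Coprime (orderOf x) := by
      rw [hx, Nat.coprime_comm, hr.coprime_iff_not_dvd]
      rintro ⟨c, rfl⟩
      rw [pow_mul, ← hx, pow_orderOf_eq_one, one_pow] at hm
      have h1 : α ⟨x, hxm⟩ = 1 := Subtype.ext hm.symm
      have h2 : (⟨x, hxm⟩ : Subgroup.zpowers x) = 1 := (MulEquiv.map_eq_one_iff α).1 h1
      have h3 : x = 1 := congrArg Subtype.val h2
      rw [h3, orderOf_one] at hx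
      exact hr.one_lt.ne hx
    obtain ⟨g, hg⟩ := isConj_iff.1 (h x (by rw [hx]; exact hrn) m hm1)
    have hgi : ∀ i : ℤ, g * x ^ i * g⁻¹ = (x ^ m) ^ i := by
      intro i
      rw [← hg, conj_zpow]
    have hgn : g ∈ Subgroup.normalizer ((Subgroup.zpowers x : Subgroup G) : Set G) := by
      rw [Subgroup.mem_normalizer_iff]
      intro y
      constructor
      · rintro ⟨i, rfl⟩
        change g * x ^ i * g⁻¹ ∈ Subgroup.zpowers x
        rw [hgi]
        exact Subgroup.zpow_mem _ (Subgroup.pow_mem _ hxm m) i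
      · intro hy
        have h1 : x ∈ Subgroup.zpowers (x ^ m) := mem_zpowers_pow_iff.2 hm1
        have h2 : Subgroup.zpowers x ≤ Subgroup.zpowers (x ^ m) := Subgroup.zpowers_le.2 h1
        obtain ⟨i, hi⟩ := h2 hy
        change (x ^ m) ^ i = g * y * g⁻¹ at hi
        rw [← hgi i] at hi
        have h3 : x ^ i = y := mul_left_cancel (mul_right_cancel hi)
        exact h3 ▸ Subgroup.zpow_mem _ hxm i
    refine ⟨⟨g, hgn⟩, ?_⟩
    apply MulEquiv.ext
    rintro ⟨y, i, rfl⟩
    have h4 : (⟨x ^ i, Subgroup.zpow_mem _ hxm i⟩ : Subgroup.zpowers x) =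
        (⟨x, hxm⟩ : Subgroup.zpowers x) ^ i := rfl
    apply Subtype.ext
    change g * x ^ i * g⁻¹ = ((α (⟨x ^ i, _⟩ : Subgroup.zpowers x) : Subgroup.zpowers x) : G)
    rw [hgi, h4, map_zpow, Subgroup.coe_zpow, ← hm]
  have hN : Nat.card (Subgroup.normalizer ((Subgroup.zpowers x : Subgroup G) : Set G)) =
      (r - 1) * Nat.card (Subgroup.centralizer ({x} : Set G)) := by
    have h1 := Subgroup.card_mul_index
      (Subgroup.normalizerMonoidHom (Subgroup.zpowers x)).ker
    rw [hker, Subgroup.index_ker, MonoidHom.range_eq_top.2 hsurj, Subgroup.card_top,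
      IsCyclic.card_mulAut, hcardP, Nat.totient_prime hr] at h1
    rw [← h1, mul_comm]
  have hrC : r ∣ Nat.card (Subgroup.centralizer ({x} : Set G)) := by
    rw [← hcardP]
    refine Subgroup.card_dvd_of_le ?_
    rw [Subgroup.zpowers_le, Subgroup.mem_centralizer_singleton_iff]
  obtain ⟨k, hk⟩ := hrC
  refine ⟨x, hx, k, Nat.card (Sylow r G), hk, ?_, hS⟩
  rw [hidx, ← hk, ← hN, mul_comm]
  exact (Subgroup.card_mul_index _).symm

/-- An element of odd prime order commuting with an involution, characteristic 2 type. -/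
theorem dvd_of_comm {G : Type u} [Group G] [Finite G] (hG : IsCharacteristicTwoType G) {x u : G}
    {r a : ℕ} (hr : r.Prime) (hr2 : r ≠ 2) (hx : orderOf x = r) (hu : orderOf u = 2)
    (hc : x * u = u * x) (ha : ¬ 2 ^ (a + 1) ∣ Nat.card G) :
    ∃ j, 1 ≤ j ∧ j ≤ a ∧ r ∣ 2 ^ j - 1 := by
  have : Fact (Nat.Prime 2) := ⟨Nat.prime_two⟩
  have hTp : IsPGroup 2 (Subgroup.zpowers u) := by
    refine IsPGroup.of_card (n := 1) ?_
    rw [Nat.card_zpowers, hu, pow_one]
  have hT1 : Subgroup.zpowers u ≠ ⊥ := by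
    rw [Ne, Subgroup.zpowers_eq_bot]
    rintro rfl
    rw [orderOf_one] at hu
    omega
  have hH := hG.2 _ hTp hT1
  set H := Subgroup.normalizer ((Subgroup.zpowers u : Subgroup G) : Set G) with hHdef
  have hxH : x ∈ H := by
    rw [hHdef, Subgroup.mem_normalizer_iff]
    intro y
    have hcx : ∀ i : ℤ, x * u ^ i = u ^ i * x := fun i =>
      ((show Commute x u from hc).zpow_right i).eq
    constructor
    · rintro ⟨i, rfl⟩
      change x * u ^ i * x⁻¹ ∈ Subgroup.zpowers u
      rw [hcx, mul_inv_cancel_right]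
      exact ⟨i, rfl⟩
    · rintro ⟨i, hi⟩
      change u ^ i = x * y * x⁻¹ at hi
      refine ⟨i, ?_⟩
      change u ^ i = y
      have h1 : x * y = x * u ^ i := by rw [hcx, hi, inv_mul_cancel_right]
      exact (mul_left_cancel h1).symm
  set Q : Subgroup H := pCore 2 H with hQ
  have hQn : Q.Normal := S0587.pCore_normal' 2
  have hQp : IsPGroup 2 Q := S0587.pCore_isPGroup' 2
  obtain ⟨k, hk⟩ := (IsPGroup.iff_card).1 hQp
  have hka : k ≤ a := by
    by_contra hlt
    apply ha
    have h1 : 2 ^ k ∣ Nat.card G := by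
      rw [← hk]
      exact (Subgroup.card_subgroup_dvd_card Q).trans (Subgroup.card_subgroup_dvd_card H)
    exact (pow_dvd_pow 2 (by omega)).trans h1
  obtain ⟨d, M, hd, -, hdvd⟩ := BpSpor.card_mulAut_dvd hQp hk
  let x' : H := ⟨x, hxH⟩
  have hx' : orderOf x' = r := by rw [← hx]; exact Subgroup.orderOf_mk x hxH
  let f : H →* MulAut Q := MulAut.conjNormal
  have hfx : f x' ≠ 1 := by
    intro h1
    have h2 : x' ∈ Subgroup.centralizer (Q : Set H) := by
      rw [Subgroup.mem_centralizer_iff]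
      intro y hy
      have h3 : ((f x' ⟨y, hy⟩ : Q) : H) = x' * y * x'⁻¹ := MulAut.conjNormal_apply _ _
      rw [h1] at h3
      change y = x' * y * x'⁻¹ at h3
      rw [eq_mul_inv_iff_mul_eq] at h3
      exact h3
    have h3 : x' ∈ Q := hH h2
    obtain ⟨j, hj⟩ := hQp ⟨x', h3⟩
    have h4 : x' ^ 2 ^ j = 1 := congrArg Subtype.val hj
    have h5 := orderOf_dvd_of_pow_eq_one h4
    rw [hx'] at h5
    exact hr2 ((Nat.prime_dvd_prime_iff_eq hr Nat.prime_two).1 (hr.dvd_of_dvd_pow h5))
  have ho : orderOf (f x') = r := by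
    have h1 : orderOf (f x') ∣ r := hx' ▸ orderOf_map_dvd f x'
    rcases (Nat.dvd_prime hr).1 h1 with h2 | h2
    · exact absurd (orderOf_eq_one_iff.1 h2) hfx
    · exact h2
  have h6 : r ∣ 2 ^ M * ∏ i : Fin d, (2 ^ d - 2 ^ (i : ℕ)) := by
    refine dvd_trans ?_ hdvd
    rw [← ho]
    exact orderOf_dvd_natCard _
  rcases (Nat.Prime.dvd_mul hr).1 h6 with h7 | h7
  · exact absurd ((Nat.prime_dvd_prime_iff_eq hr Nat.prime_two).1 (hr.dvd_of_dvd_pow h7)) hr2
  · obtain ⟨i, -, hi⟩ := (Prime.dvd_finsetProd_iff hr.prime _).1 h7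
    have hi2 := i.2
    have h8 : 2 ^ d - 2 ^ (i : ℕ) = 2 ^ (i : ℕ) * (2 ^ (d - i) - 1) := by
      rw [Nat.mul_sub, ← pow_add, mul_one]
      congr 2
      omega
    rw [h8] at hi
    rcases (Nat.Prime.dvd_mul hr).1 hi with h9 | h9
    · exact absurd ((Nat.prime_dvd_prime_iff_eq hr Nat.prime_two).1 (hr.dvd_of_dvd_pow h9)) hr2
    · exact ⟨d - i, by omega, by omega, h9⟩

/-- The criterion for characteristic 2 type. -/
theorem not_ratl_of_charTwo {G : Type u} [Group G] [Finite G] (hG : IsCharacteristicTwoType G)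
    (r a M N : ℕ) (hr : r.Prime) (hr2 : r ≠ 2) (hN : Nat.card G = r * ((r - 1) * (2 ^ M * N)))
    (hrN : ¬ r ∣ (r - 1) * (2 ^ M * N)) (ha : ¬ 2 ^ (a + 1) ∣ r * ((r - 1) * (2 ^ M * N)))
    (hpow : ∀ j < a, ¬ r ∣ 2 ^ (j + 1) - 1)
    (hodd : ∀ k ∈ Nat.divisors N, (k + (r - 1) * (2 ^ M * N)) % r ≠ 0) : ¬ Ratl G := by
  intro h
  obtain ⟨x, hx, k, s, hk, hs, hs1⟩ := sylow_arith (h.orat 1) hr (Nat.coprime_one_right r)
    (by rw [hN]; exact dvd_mul_right _ _)
    (by
      rw [hN]
      intro h1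
      exact hrN (Nat.dvd_of_mul_dvd_mul_left hr.pos h1))
  have hr1 : 0 < r - 1 := by have := hr.two_le; omega
  have h1 : (r - 1) * (2 ^ M * N) = s * ((r - 1) * k) := by
    rw [hN] at hs
    refine Nat.eq_of_mul_eq_mul_left hr.pos ?_
    rw [hs]; ring
  have h1' : 2 ^ M * N = s * k := by
    refine Nat.eq_of_mul_eq_mul_left hr1 ?_
    rw [h1]; ring
  have h2 : (r - 1) * k ≡ (r - 1) * (2 ^ M * N) [MOD r] := by
    rw [h1]
    calc (r - 1) * k = 1 * ((r - 1) * k) := (one_mul _).symm
      _ ≡ s * ((r - 1) * k) [MOD r] := (hs1.symm.mul_right _)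
  have h3 : 2 ∣ k := by
    by_contra h3
    have h4 : k ∣ 2 ^ M * N := by rw [h1']; exact dvd_mul_left _ _
    have h5 : k ∣ N := by
      refine Nat.Coprime.dvd_of_dvd_mul_left ?_ h4
      exact Nat.Coprime.pow_right M ((Nat.coprime_two_right).2 (Nat.not_even_iff_odd.1
        (fun he => h3 he.two_dvd)))
    have hN0 : N ≠ 0 := by
      rintro rfl
      apply hrN
      simp
    refine hodd k (Nat.mem_divisors.2 ⟨h5, hN0⟩) ?_
    have h6 : k + (r - 1) * (2 ^ M * N) ≡ k + (r - 1) * k [MOD r] := h2.symm.add_left k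
    have h7 : k + (r - 1) * k = r * k := by
      calc k + (r - 1) * k = (1 + (r - 1)) * k := by ring
        _ = r * k := by congr 1; omega
    rw [h7] at h6
    have h8 : (k + (r - 1) * (2 ^ M * N)) % r = (r * k) % r := h6
    rw [h8, Nat.mul_mod_right]
  have : Fact (Nat.Prime 2) := ⟨Nat.prime_two⟩
  obtain ⟨u, hu⟩ := exists_prime_orderOf_dvd_card'
    (G := Subgroup.centralizer ({x} : Set G)) 2 (by rw [hk]; exact Dvd.dvd.mul_left h3 _)
  obtain ⟨j, hj1, hj2, hj3⟩ := dvd_of_comm hG hr hr2 hx (u := (u : G))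
    (by rw [Subgroup.orderOf_coe]; exact hu) (Subgroup.mem_centralizer_singleton_iff.1 u.2).symm
    (a := a) (by rw [hN]; exact ha)
  refine hpow (j - 1) (by omega) ?_
  rwa [Nat.sub_add_cancel hj1]

end Cfsg.Agent.H689
end
end

-- part: H689/Arith
section
set_option linter.all false
open scoped Cfsg.Agent.FastGrp

/-!
# Arithmetic of a rational Sylow subgroup of prime order
-/

set_option autoImplicit false
set_option linter.unusedSectionVars false

open Cfsg

namespace Cfsg.Agent.H689

universe u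

theorem orat_arith {G : Type u} [Group G] [Finite G] {n r N : ℕ} (h : ORat n G) (hr : r.Prime)
    (hrn : r.Coprime n) (hN : Nat.card G = r * N) (hrN : ¬ r ∣ N) :
    ∃ x : G, orderOf x = r ∧ ∃ k : ℕ, Nat.card (Subgroup.centralizer ({x} : Set G)) = r * k ∧
      (r - 1) * k ∣ N ∧ (k + N) % r = 0 := by
  obtain ⟨x, hx, k, s, hk, hs, hs1⟩ := sylow_arith h hr hrn (by rw [hN]; exact dvd_mul_right _ _)
    (by
      rw [hN]
      intro h1
      exact hrN (Nat.dvd_of_mul_dvd_mul_left hr.pos h1))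
  refine ⟨x, hx, k, hk, ?_, ?_⟩
  · have h1 : N = s * ((r - 1) * k) := by
      rw [hN] at hs
      refine Nat.eq_of_mul_eq_mul_left hr.pos ?_
      rw [hs]; ring
    exact ⟨s, by rw [h1]; ring⟩
  · have h1 : N = s * ((r - 1) * k) := by
      rw [hN] at hs
      refine Nat.eq_of_mul_eq_mul_left hr.pos ?_
      rw [hs]; ring
    have h2 : k + N ≡ k + 1 * ((r - 1) * k) [MOD r] := by
      rw [h1]
      exact Nat.ModEq.add_left _ (hs1.mul_right _)
    have h3 : k + 1 * ((r - 1) * k) = r * k := by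
      obtain ⟨m, rfl⟩ : ∃ m, r = m + 1 := ⟨r - 1, by have := hr.pos; omega⟩
      rw [Nat.add_sub_cancel]; ring
    rw [h3] at h2
    have h4 : k + N ≡ 0 [MOD r] := h2.trans ((Nat.modEq_zero_iff_dvd).2 (dvd_mul_right _ _))
    exact h4

/-- A bound for the centralizer. -/
theorem not_orat_of_centralizer {G : Type u} [Group G] [Finite G] {n r N : ℕ} (hr : r.Prime)
    (hrn : r.Coprime n) (hN : Nat.card G = r * N) (hrN : ¬ r ∣ N) (B : ℕ → Prop)
    (hc : ∀ (x : G) (k : ℕ), orderOf x = r →
      Nat.card (Subgroup.centralizer ({x} : Set G)) = r * k → B k)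
    (hk : ∀ k, B k → (r - 1) * k ∣ N → (k + N) % r ≠ 0) : ¬ ORat n G := by
  intro h
  obtain ⟨x, hx, k, h1, h2, h3⟩ := orat_arith h hr hrn hN hrN
  exact hk k (hc x k hx h1) h2 h3

/-- The centralizer is the group generated by the element. -/
theorem not_orat_of_self {G : Type u} [Group G] [Finite G] {n r N : ℕ} (hr : r.Prime)
    (hrn : r.Coprime n) (hN : Nat.card G = r * N) (hrN : ¬ r ∣ N)
    (hc : ∀ x : G, orderOf x = r → Nat.card (Subgroup.centralizer ({x} : Set G)) = r)
    (hk : ¬ (r - 1 ∣ N ∧ (1 + N) % r = 0)) : ¬ ORat n G := by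
  refine not_orat_of_centralizer hr hrn hN hrN (fun k => k = 1) ?_ ?_
  · intro x k hx h1
    rw [hc x hx] at h1
    exact (Nat.eq_of_mul_eq_mul_left hr.pos (by rw [mul_one]; exact h1)).symm
  · rintro k rfl h1 h2
    rw [mul_one] at h1
    exact hk ⟨h1, h2⟩

/-- The normalizer of the group generated by an element of prime order. -/
theorem orat_card_normalizer {G : Type u} [Group G] [Finite G] {n r : ℕ} (h : ORat n G)
    (hr : r.Prime) (hrn : r.Coprime n) {x : G} (hx : orderOf x = r) :
    Nat.card (Subgroup.normalizer ((Subgroup.zpowers x : Subgroup G) : Set G)) =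
      (r - 1) * Nat.card (Subgroup.centralizer ({x} : Set G)) := by
  have : Fact r.Prime := ⟨hr⟩
  have hcardP : Nat.card (Subgroup.zpowers x) = r := by rw [Nat.card_zpowers, hx]
  have hcyc : IsCyclic (Subgroup.zpowers x) := inferInstance
  have hker : Nat.card (Subgroup.normalizerMonoidHom (Subgroup.zpowers x)).ker =
      Nat.card (Subgroup.centralizer ({x} : Set G)) := by
    rw [Subgroup.normalizerMonoidHom_ker]
    have hle : Subgroup.centralizer ((Subgroup.zpowers x : Subgroup G) : Set G) ≤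
        Subgroup.normalizer ((Subgroup.zpowers x : Subgroup G) : Set G) :=
      Subgroup.centralizer_le_normalizer _
    rw [Nat.card_congr (Subgroup.subgroupOfEquivOfLe hle).toEquiv]
    congr 2
    ext g
    rw [Subgroup.mem_centralizer_iff, Subgroup.mem_centralizer_singleton_iff]
    constructor
    · intro h1
      exact (h1 x (Subgroup.mem_zpowers x)).symm
    · rintro h1 y ⟨i, rfl⟩
      exact ((show Commute x g from h1.symm).zpow_left i).eq
  have hsurj : Function.Surjective (Subgroup.normalizerMonoidHom (Subgroup.zpowers x)) := by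
    intro α
    have hxm : x ∈ Subgroup.zpowers x := Subgroup.mem_zpowers x
    obtain ⟨m, hm⟩ : ∃ m : ℕ, x ^ m = (α ⟨x, hxm⟩ : G) := by
      have := (α ⟨x, hxm⟩).2
      rw [← mem_powers_iff_mem_zpowers] at this
      exact this
    have hm1 : m.Coprime (orderOf x) := by
      rw [hx, Nat.coprime_comm, hr.coprime_iff_not_dvd]
      rintro ⟨c, rfl⟩
      rw [pow_mul, ← hx, pow_orderOf_eq_one, one_pow] at hm
      have h1 : α ⟨x, hxm⟩ = 1 := Subtype.ext hm.symm
      have h2 : (⟨x, hxm⟩ : Subgroup.zpowers x) = 1 := (MulEquiv.map_eq_one_iff α).1 h1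
      have h3 : x = 1 := congrArg Subtype.val h2
      rw [h3, orderOf_one] at hx
      exact hr.one_lt.ne hx
    obtain ⟨g, hg⟩ := isConj_iff.1 (h x (by rw [hx]; exact hrn) m hm1)
    have hgi : ∀ i : ℤ, g * x ^ i * g⁻¹ = (x ^ m) ^ i := by
      intro i
      rw [← hg, conj_zpow]
    have hgn : g ∈ Subgroup.normalizer ((Subgroup.zpowers x : Subgroup G) : Set G) := by
      rw [Subgroup.mem_normalizer_iff]
      intro y
      constructor
      · rintro ⟨i, rfl⟩
        change g * x ^ i * g⁻¹ ∈ Subgroup.zpowers x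
        rw [hgi]
        exact Subgroup.zpow_mem _ (Subgroup.pow_mem _ hxm m) i
      · intro hy
        have h1 : x ∈ Subgroup.zpowers (x ^ m) := mem_zpowers_pow_iff.2 hm1
        have h2 : Subgroup.zpowers x ≤ Subgroup.zpowers (x ^ m) := Subgroup.zpowers_le.2 h1
        obtain ⟨i, hi⟩ := h2 hy
        change (x ^ m) ^ i = g * y * g⁻¹ at hi
        rw [← hgi i] at hi
        have h3 : x ^ i = y := mul_left_cancel (mul_right_cancel hi)
        exact h3 ▸ Subgroup.zpow_mem _ hxm i
    refine ⟨⟨g, hgn⟩, ?_⟩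
    apply MulEquiv.ext
    rintro ⟨y, i, rfl⟩
    have h4 : (⟨x ^ i, Subgroup.zpow_mem _ hxm i⟩ : Subgroup.zpowers x) =
        (⟨x, hxm⟩ : Subgroup.zpowers x) ^ i := rfl
    apply Subtype.ext
    change g * x ^ i * g⁻¹ = ((α (⟨x ^ i, _⟩ : Subgroup.zpowers x) : Subgroup.zpowers x) : G)
    rw [hgi, h4, map_zpow, Subgroup.coe_zpow, ← hm]
  have hN : Nat.card (Subgroup.normalizer ((Subgroup.zpowers x : Subgroup G) : Set G)) =
      (r - 1) * Nat.card (Subgroup.centralizer ({x} : Set G)) := by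
    have h1 := Subgroup.card_mul_index
      (Subgroup.normalizerMonoidHom (Subgroup.zpowers x)).ker
    rw [hker, Subgroup.index_ker, MonoidHom.range_eq_top.2 hsurj, Subgroup.card_top,
      IsCyclic.card_mulAut, hcardP, Nat.totient_prime hr] at h1
    rw [← h1, mul_comm]
  exact hN

/-- The normalizer is too small. -/
theorem not_orat_of_normalizer {G : Type u} [Group G] [Finite G] {n r : ℕ} (hr : r.Prime)
    (hrn : r.Coprime n) (hd : r ∣ Nat.card G) {m : ℕ} (hm : m ≠ (r - 1) * r)
    (H : ∀ P : Subgroup G, Nat.card P = r →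
      Nat.card (Subgroup.centralizer (P : Set G)) = r ∧
        Nat.card (Subgroup.normalizer (P : Set G)) = m) : ¬ ORat n G := by
  intro h
  have : Fact r.Prime := ⟨hr⟩
  obtain ⟨x, hx⟩ := exists_prime_orderOf_dvd_card' (G := G) r hd
  have hcardP : Nat.card (Subgroup.zpowers x) = r := by rw [Nat.card_zpowers, hx]
  obtain ⟨h1, h2⟩ := H _ hcardP
  have h3 := orat_card_normalizer h hr hrn hx
  have h4 : Subgroup.centralizer ((Subgroup.zpowers x : Subgroup G) : Set G) =
      Subgroup.centralizer ({x} : Set G) := by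
    ext g
    rw [Subgroup.mem_centralizer_iff, Subgroup.mem_centralizer_singleton_iff]
    constructor
    · intro h1
      exact (h1 x (Subgroup.mem_zpowers x)).symm
    · rintro h1 y ⟨i, rfl⟩
      exact ((show Commute x g from h1.symm).zpow_left i).eq
  rw [← h4, h1, h2] at h3
  exact hm h3

end Cfsg.Agent.H689
end
end
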