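import Cfsg.Agent.SporRec.TwoSp6.Sp
import Cfsg.Agent.Characters.Core
import Cfsg.Agent.PermChar.SymAlt
import Cfsg.Agent.SporRec.Co3.Mat
import Cfsg.Agent.H689.Rat
import Cfsg.Agent.S0157
import Cfsg.Agent.StandardComponent.SpTwoAut
import Cfsg.Agent.Lib.Hoist
import Cfsg.Agent.Prune
set_option linter.all false
prune_inst 0x7fffbdfefbef7bffffff7e3fffdffff9b3ab6fffe6fffd43ffe96bbf1fbf1fa7cdc56fa58df2b2fedff6e21490bafb43fffffeffe86ffc7ffffdfff41ffbee4ff7ff3508519c8cb41fbe2fff93f0778e6f3fffffffffffffffffffffffffffffffbffbfeffff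
open scoped Cfsg.Agent.FastGrp

-- part: H689/Sp6Base
section
/-!
# A signed permutation representation of `Sp₆(2)` on 28 points

`S = Sp₆(2)` acts affinely on `V = F₂⁶` (the quadratic forms with the given polarization) with an orbit
`Z` of length 28; the monomial matrices `M g` form a representation up to the sign `ω`.
-/

set_option autoImplicit false

open Cfsg.Agent.SporRec.TwoSp6.Sp

namespace Cfsg.Agent.H689.Sp6

/-- The quadratic form. -/
def qf (v : V) : ZMod 2 :=
  v (Sum.inl 0) * v (Sum.inr 0) + v (Sum.inl 1) * v (Sum.inr 1) + v (Sum.inl 2) * v (Sum.inr 2)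

theorem om_eq (u v : V) : om u v =
    (u (Sum.inl 0) * v (Sum.inr 0) + u (Sum.inr 0) * v (Sum.inl 0)) +
    (u (Sum.inl 1) * v (Sum.inr 1) + u (Sum.inr 1) * v (Sum.inl 1)) +
    (u (Sum.inl 2) * v (Sum.inr 2) + u (Sum.inr 2) * v (Sum.inl 2)) := by
  show Cfsg.sympForm 3 (ZMod 2) _ _ = _
  rw [Cfsg.Agent.ClassicalGeometry.SympBasic.sympForm_eq_sum, Fin.sum_univ_three]
  simp only [CharTwo.sub_eq_add]
  ring

theorem qf_add (u v : V) : qf (u + v) = qf u + qf v + om u v := by
  rw [om_eq]
  unfold qf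
  simp only [Pi.add_apply]
  ring

theorem om_add_right (u v w : V) : om u (v + w) = om u v + om u w := by
  rw [om_eq, om_eq, om_eq]
  simp only [Pi.add_apply]
  ring

theorem om_add_left (u v w : V) : om (u + v) w = om u w + om v w := by
  rw [om_eq, om_eq, om_eq]
  simp only [Pi.add_apply]
  ring

theorem z2_add_self (a : ZMod 2) : a + a = 0 := CharTwo.add_self_eq_zero a

theorem z2_two : (2 : ZMod 2) = 0 := rfl

attribute [local irreducible] act Cfsg.sympForm

/-- An additive function on `V` is represented by a vector. -/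
theorem exists_om_of_additive (l : V → ZMod 2) (hl : ∀ x y, l (x + y) = l x + l y) :
    ∃ c : V, ∀ v, l v = om v c := by
  classical
  let L : V →+ ZMod 2 := AddMonoidHom.mk' l hl
  have hlin : ∀ v : V, l v = ∑ i, v i * l (Pi.single i 1) := by
    intro v
    have h1 : L v = ∑ i, L (Pi.single i (v i)) := by
      rw [← map_sum]
      congr 1
      exact (Finset.univ_sum_single v).symm
    have h2 : l v = ∑ i, l (Pi.single i (v i)) := h1
    rw [h2]
    refine Finset.sum_congr rfl fun i _ => ?_
    have hz : l 0 = 0 := map_zero L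
    rcases (show v i = 0 ∨ v i = 1 by generalize v i = a; revert a; decide) with h | h
    · rw [h, Pi.single_zero, zero_mul, hz]
    · rw [h, one_mul]
  refine ⟨Sum.elim (fun i => l (Pi.single (Sum.inr i) 1)) (fun i => l (Pi.single (Sum.inl i) 1)), fun v => ?_⟩
  rw [hlin v, om_eq, Fintype.sum_sum_type, Fin.sum_univ_three, Fin.sum_univ_three]
  simp only [Sum.elim_inl, Sum.elim_inr]
  ring

theorem om_nondeg {c d : V} (h : ∀ v, om v c = om v d) : c = d := by
  funext i
  rcases i with i | i
  · have := h (Pi.single (Sum.inr i) 1)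
    rw [om_eq, om_eq] at this
    fin_cases i <;> simpa [Pi.single_apply] using this
  · have := h (Pi.single (Sum.inl i) 1)
    rw [om_eq, om_eq] at this
    fin_cases i <;> simpa [Pi.single_apply] using this

theorem exists_cg (g : S) : ∃ c : V, ∀ v, qf (act g⁻¹ v) + qf v = om v c := by
  refine exists_om_of_additive (fun v => qf (act g⁻¹ v) + qf v) fun x y => ?_
  simp only [act_add, qf_add, act_om]
  linear_combination (om x y) * z2_two

/-- The cocycle. -/
noncomputable def cg (g : S) : V := (exists_cg g).choose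

theorem cg_spec (g : S) (v : V) : qf (act g⁻¹ v) + qf v = om v (cg g) := (exists_cg g).choose_spec v

theorem act_inv_act (g : S) (v : V) : act g⁻¹ (act g v) = v := by
  rw [← act_mul, inv_mul_cancel, act_one]

theorem act_act_inv (g : S) (v : V) : act g (act g⁻¹ v) = v := by
  rw [← act_mul, mul_inv_cancel, act_one]

theorem cg_spec' (g : S) (v : V) : qf (act g v) = qf v + om (act g v) (cg g) := by
  have := cg_spec g (act g v)
  rw [act_inv_act] at this
  rw [← this, ← add_assoc, z2_add_self, zero_add]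

theorem cg_eq {g : S} {c : V} (h : ∀ v, qf (act g v) = qf v + om (act g v) c) : cg g = c := by
  apply om_nondeg
  intro v
  have h1 := h (act g⁻¹ v)
  rw [act_act_inv] at h1
  rw [← cg_spec, h1, ← add_assoc, z2_add_self, zero_add]

theorem cg_mul (g h : S) : cg (g * h) = act g (cg h) + cg g := by
  apply cg_eq
  intro v
  rw [act_mul, cg_spec' g, cg_spec' h, om_add_right, act_om]
  ring

theorem cg_one : cg 1 = 0 := by
  apply cg_eq
  intro v
  rw [act_one, show (0 : V) = v + v from (add_self v).symm, om_add_right, z2_add_self, add_zero]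

/-- The sign of an element of the field with two elements. -/
def sgn (a : ZMod 2) : ℤ := if a = 0 then 1 else -1

theorem sgn_add : ∀ a b : ZMod 2, sgn (a + b) = sgn a * sgn b := by decide
theorem sgn_mul_self : ∀ a : ZMod 2, sgn a * sgn a = 1 := by decide
theorem sgn_zero : sgn 0 = 1 := rfl
theorem sgn_inj : ∀ {a b : ZMod 2}, sgn a = sgn b → a = b := by decide

theorem enc_bij : Function.Bijective (fun c : Fin 64 => enc c) := by
  rw [Fintype.bijective_iff_surjective_and_card]
  constructor
  · intro x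
    obtain ⟨c, hc, h⟩ := exists_enc x
    exact ⟨⟨c, hc⟩, h.symm⟩
  · rw [Fintype.card_fin, Fintype.card_fun, ZMod.card, Fintype.card_sum, Fintype.card_fin]
    norm_num

/-- Codes of vectors. -/
noncomputable def encE : Fin 64 ≃ V := Equiv.ofBijective _ enc_bij

theorem encE_apply (c : Fin 64) : encE c = enc c := rfl

/-- The quadratic form on codes. -/
def qN (c : ℕ) : Bool :=
  ((c.testBit 0 && c.testBit 3) ^^ ((c.testBit 1 && c.testBit 4) ^^ (c.testBit 2 && c.testBit 5)))

theorem qf_enc (c : ℕ) : qf (enc c) = if qN c then 1 else 0 := by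
  have e1 : ∀ (c : ℕ) (i : Fin 3), enc c (Sum.inl i) = bitf c i.val := fun _ _ => rfl
  have e2 : ∀ (c : ℕ) (i : Fin 3), enc c (Sum.inr i) = bitf c (3 + i.val) := fun _ _ => rfl
  unfold qf
  simp only [e1, e2, Fin.val_zero, Fin.val_one, Fin.val_two, Nat.add_zero, Nat.reduceAdd]
  have key : ∀ a b : Bool, (if a then (1 : ZMod 2) else 0) * (if b then 1 else 0) =
      if (a && b) then 1 else 0 := by decide
  have key2 : ∀ a b : Bool, (if a then (1 : ZMod 2) else 0) + (if b then 1 else 0) =
      if (a ^^ b) then 1 else 0 := by decide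
  unfold bitf qN
  rw [key, key, key, key2, key2, Bool.xor_assoc]

/-- The sign on codes. -/
def sN (b : Bool) : ℤ := if b then -1 else 1

theorem sgn_ite (b : Bool) : sgn (if b then 1 else 0) = sN b := by
  cases b <;> rfl

theorem sum_sgn_qf : ∑ v : V, sgn (qf v) = 8 := by
  rw [← Equiv.sum_comp encE]
  simp only [encE_apply, qf_enc, sgn_ite]
  decide +kernel

theorem qf_cg (g : S) : qf (cg g) = 0 := by
  have h1 : ∑ v : V, sgn (qf (act g⁻¹ v)) = ∑ v : V, sgn (qf v) := by
    let e : V ≃ V := ⟨act g⁻¹, act g, act_act_inv g, act_inv_act g⟩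
    exact Equiv.sum_comp e (fun v => sgn (qf v))
  have h2 : ∑ v : V, sgn (qf (act g⁻¹ v)) = sgn (qf (cg g)) * ∑ v : V, sgn (qf v) := by
    have h3 : ∀ v : V, sgn (qf (act g⁻¹ v)) = sgn (qf (cg g)) * sgn (qf (v + cg g)) := by
      intro v
      rw [← sgn_add]
      congr 1
      have := cg_spec g v
      rw [qf_add, ← this]
      linear_combination (-qf v - qf (cg g)) * z2_two
    rw [Finset.sum_congr rfl fun v _ => h3 v, ← Finset.mul_sum]
    (with_reducible congr 1)
    exact Equiv.sum_comp (Equiv.addRight (cg g)) (fun v => sgn (qf v))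
  rw [h2, sum_sgn_qf] at h1
  apply sgn_inj
  rw [sgn_zero]
  omega

/-- The affine action. -/
noncomputable def aff (g : S) (a : V) : V := act g a + cg g

theorem aff_one (a : V) : aff 1 a = a := by
  rw [aff, act_one, cg_one, add_zero]

theorem aff_mul (g h : S) (a : V) : aff (g * h) a = aff g (aff h a) := by
  rw [aff, aff, aff, act_mul, cg_mul, act_add, add_assoc]

theorem qf_aff (g : S) (a : V) : qf (aff g a) = qf a := by
  rw [aff, qf_add, qf_cg, cg_spec' g a]
  linear_combination (om (act g a) (cg g)) * z2_two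

/-- The 28 points. -/
abbrev Z := {a : V // qf a = 1}

noncomputable instance : MulAction S Z where
  smul g a := ⟨aff g a.1, by rw [qf_aff, a.2]⟩
  one_smul a := Subtype.ext (aff_one a.1)
  mul_smul g h a := Subtype.ext (aff_mul g h a.1)

theorem coe_smul (g : S) (a : Z) : ((g • a : Z) : V) = aff g a.1 := rfl

/-- The sign of the monomial action. -/
noncomputable def eps (g : S) (a : Z) : ℤ := sgn (om ((g • a : Z) : V) (cg g))

theorem eps_mul_self (g : S) (a : Z) : eps g a * eps g a = 1 := sgn_mul_self _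

theorem om_aff (g : S) (a b : V) : om (aff g a) (aff g b) =
    om a b + om (aff g a) (cg g) + om (aff g b) (cg g) := by
  have h1 : om (cg g) (cg g) = 0 := om_self _
  have h2 : om (act g a) (act g b) = om a b := act_om g a b
  have h3 : om (cg g) (act g b) = om (act g b) (cg g) := om_symm _ _
  simp only [aff, om_add_left, om_add_right, h1, h2, h3]
  ring

theorem sgn_om_smul (g : S) (a b : Z) : sgn (om ((g • a : Z) : V) ((g • b : Z) : V)) =
    sgn (om (a : V) b) * eps g a * eps g b := by
  unfold eps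
  rw [coe_smul, coe_smul, om_aff, sgn_add, sgn_add]

/-- The sign cocycle. -/
noncomputable def om2 (g h : S) : ℤ := sgn (om (cg g) (act g (cg h)))

theorem om2_mul_self (g h : S) : om2 g h * om2 g h = 1 := sgn_mul_self _

theorem eps_mul (g h : S) (a : Z) : eps g (h • a) * eps h a = om2 g h * eps (g * h) a := by
  have hA : om (aff h a.1) (cg h) = om (aff g (aff h a.1)) (act g (cg h)) + om (cg g) (act g (cg h)) := by
    have h1 : om (aff g (aff h a.1)) (act g (cg h)) =
        om (aff h a.1) (cg h) + om (cg g) (act g (cg h)) := by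
      have h2 : aff g (aff h a.1) = act g (aff h a.1) + cg g := rfl
      rw [h2, om_add_left, act_om]
    rw [h1, add_assoc, z2_add_self, add_zero]
  show sgn (om (aff g (aff h a.1)) (cg g)) * sgn (om (aff h a.1) (cg h)) =
    sgn (om (cg g) (act g (cg h))) * sgn (om (aff (g * h) a.1) (cg (g * h)))
  rw [hA, aff_mul, cg_mul, om_add_right, ← sgn_add, ← sgn_add]
  congr 1
  ring

theorem eps_one (a : Z) : eps 1 a = 1 := by
  unfold eps
  rw [cg_one, show (0 : V) = (a : V) + a from (add_self _).symm, one_smul, om_add_right, z2_add_self]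
  rfl

section Mat

variable (R : Type*) [CommRing R]

/-- The monomial matrices. -/
noncomputable def M (g : S) : Matrix Z Z R := fun a b => if a = g • b then ((eps g b : ℤ) : R) else 0

/-- The sign matrix. -/
noncomputable def Sm : Matrix Z Z R := fun a b => ((sgn (om (a : V) b) : ℤ) : R)

theorem M_mul (g h : S) : M R g * M R h = ((om2 g h : ℤ) : R) • M R (g * h) := by
  ext a b
  rw [Matrix.mul_apply, Matrix.smul_apply]
  simp only [M]
  rw [Finset.sum_eq_single (h • b)]
  · rw [if_pos rfl, mul_smul]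
    by_cases hab : a = g • h • b
    · rw [if_pos hab, if_pos hab, smul_eq_mul, ← Int.cast_mul, eps_mul, Int.cast_mul]
    · rw [if_neg hab, if_neg hab, zero_mul, smul_zero]
  · intro c _ hc
    rw [if_neg hc, mul_zero]
  · intro hc
    exact absurd (Finset.mem_univ _) hc

theorem M_one : M R 1 = 1 := by
  ext a b
  simp only [M, eps_one, one_smul, Matrix.one_apply, Int.cast_one]

theorem M_mul_Sm (g : S) : M R g * Sm R = Sm R * M R g := by
  ext a b
  rw [Matrix.mul_apply, Matrix.mul_apply]
  simp only [M, Sm]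
  obtain ⟨c, rfl⟩ : ∃ c : Z, a = g • c := ⟨g⁻¹ • a, by rw [smul_inv_smul]⟩
  rw [Finset.sum_eq_single c, Finset.sum_eq_single (g • b)]
  · rw [if_pos rfl, if_pos rfl, sgn_om_smul]
    push_cast
    have : ((eps g b : ℤ) : R) * ((eps g b : ℤ) : R) = 1 := by
      rw [← Int.cast_mul, eps_mul_self, Int.cast_one]
    linear_combination (-((eps g c : ℤ) : R) * ((sgn (om (c : V) b) : ℤ) : R)) * this
  · intro d _ hd
    rw [if_neg hd, mul_zero]
  · intro hc
    exact absurd (Finset.mem_univ _) hc
  · intro d _ hd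
    rw [if_neg (fun h => hd (smul_left_cancel g h).symm), zero_mul]
  · intro hc
    exact absurd (Finset.mem_univ _) hc

theorem M_transpose_mul (g : S) : (M R g).transpose * M R g = 1 := by
  ext a b
  rw [Matrix.mul_apply]
  simp only [M, Matrix.transpose_apply]
  rw [Finset.sum_eq_single (g • b)]
  · rw [if_pos rfl, Matrix.one_apply]
    by_cases hab : a = b
    · rw [hab, if_pos rfl, if_pos rfl, ← Int.cast_mul, eps_mul_self, Int.cast_one]
    · rw [if_neg hab, if_neg (fun h => hab (smul_left_cancel g h).symm), zero_mul]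
  · intro c _ hc
    rw [if_neg hc, mul_zero]
  · intro hc
    exact absurd (Finset.mem_univ _) hc

end Mat

end Cfsg.Agent.H689.Sp6
end

-- part: H689/Sp6Frame
section
/-!
# The seven-dimensional representation of `Sp₆(2)`

A frame `U` (28 × 7) with `U Uᵀ = 4 - S`, `Uᵀ U = 12`, and the action of some elements on it.
-/

set_option autoImplicit false

open Cfsg.Agent.SporRec.TwoSp6.Sp

namespace Cfsg.Agent.H689.Sp6

attribute [local irreducible] act Cfsg.sympForm

/-- Positions of the entries `1` of the columns of `U`. -/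
def posL (i : Fin 7) : ℕ :=
  [6827967812468736, 1149772288, 11338713702400, 9511622204220506112, 13511623516618752,
    10376293953879146496, 9373116724464855040].getD i.val 0

/-- Positions of the entries `-1` of the columns of `U`. -/
def negL (i : Fin 7) : ℕ :=
  [10159488547946496, 574916608, 88648124992000, 1297115857528553472, 3377905891540992,
    432346184313470976, 1452410879827018240].getD i.val 0

/-- The entries of `U` on codes. -/
def uN (c : ℕ) (i : Fin 7) : ℤ := if (posL i).testBit c then 1 else if (negL i).testBit c then -1 else 0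

theorem uN_mul_transpose : ∀ c d : Fin 64, qN c → qN d →
    uN c 0 * uN d 0 + uN c 1 * uN d 1 + uN c 2 * uN d 2 + uN c 3 * uN d 3 + uN c 4 * uN d 4 +
      uN c 5 * uN d 5 + uN c 6 * uN d 6 = (if c = d then 4 else 0) - sN (fN c d) := by
  (set_option synthInstance.maxSize 2000 in open scoped Cfsg.Agent.Lib.Hoist Cfsg.Agent.Lib.HoistLin in decide +kernel)

theorem uN_transpose_mul : ∀ i j : Fin 7, (∑ c : Fin 64, if qN c then uN c i * uN c j else 0) =
    if i = j then 12 else 0 := by
  decide +kernel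

/-- The code of a vector. -/
noncomputable def code (v : V) : Fin 64 := encE.symm v

theorem enc_code (v : V) : enc (code v) = v := by
  rw [← encE_apply, code, Equiv.apply_symm_apply]

theorem code_enc (c : Fin 64) : code (enc c) = c := by
  rw [← encE_apply, code, Equiv.symm_apply_apply]

theorem qN_code (a : Z) : qN (code a.1) = true := by
  have h := a.2
  rw [← enc_code a.1, qf_enc] at h
  by_contra hcon
  rw [if_neg hcon] at h
  exact absurd h (by decide)

/-- The frame. -/
noncomputable def U (a : Z) (i : Fin 7) : ℤ := uN (code a.1) i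

theorem U_mul_transpose (a b : Z) : ∑ i, U a i * U b i = (if a = b then 4 else 0) - sgn (om (a : V) b) := by
  rw [Fin.sum_univ_seven]
  have h1 : om (a : V) b = if fN (code a.1) (code b.1) then 1 else 0 := by
    rw [← om_enc, enc_code, enc_code]
  rw [h1, sgn_ite]
  have h2 : (if a = b then (4 : ℤ) else 0) = if code a.1 = code b.1 then 4 else 0 := by
    have : a = b ↔ code a.1 = code b.1 := by
      rw [code, code, encE.symm.injective.eq_iff, Subtype.ext_iff]
    simp only [this]
  rw [h2]
  exact uN_mul_transpose _ _ (qN_code a) (qN_code b)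

theorem sum_Z {R : Type*} [AddCommMonoid R] (F : V → R) :
    ∑ a : Z, F a.1 = ∑ c : Fin 64, if qN c then F (enc c) else 0 := by
  have h1 : ∑ a : Z, F a.1 = ∑ v : V, if qf v = 1 then F v else 0 := by
    rw [← Finset.sum_filter]
    symm
    exact Finset.sum_subtype _ (fun x => by simp) F
  rw [h1, ← Equiv.sum_comp encE]
  refine Finset.sum_congr rfl fun c _ => ?_
  rw [encE_apply, qf_enc]
  by_cases h : qN c
  · rw [if_pos h, if_pos rfl, if_pos h]
  · rw [if_neg h, if_neg h, if_neg (by decide)]

theorem U_transpose_mul (i j : Fin 7) : ∑ a, U a i * U a j = if i = j then 12 else 0 := by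
  have := sum_Z (fun v => uN (code v) i * uN (code v) j)
  simp only [code_enc] at this
  rw [← uN_transpose_mul i j, ← this]
  rfl

theorem card_Z : Fintype.card Z = 28 := by
  have h1 := sum_Z (fun _ => (1 : ℕ))
  rw [Finset.sum_const, smul_eq_mul, mul_one, Finset.card_univ] at h1
  rw [h1]
  decide +kernel

/-- The frame as a complex matrix. -/
noncomputable def Uc : Matrix Z (Fin 7) ℂ := fun a i => ((U a i : ℤ) : ℂ)

theorem Uc_mul_transpose : Uc * Uc.transpose = (4 : ℂ) • 1 - Sm ℂ := by
  ext a b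
  rw [Matrix.mul_apply, Matrix.sub_apply, Matrix.smul_apply, Matrix.one_apply]
  simp only [Uc, Sm, Matrix.transpose_apply]
  have := congrArg (Int.cast : ℤ → ℂ) (U_mul_transpose a b)
  push_cast at this
  rw [this]
  simp only [smul_eq_mul]
  split_ifs <;> ring

theorem Uc_transpose_mul : Uc.transpose * Uc = (12 : ℂ) • 1 := by
  ext i j
  rw [Matrix.mul_apply, Matrix.smul_apply, Matrix.one_apply]
  simp only [Uc, Matrix.transpose_apply]
  have := congrArg (Int.cast : ℤ → ℂ) (U_transpose_mul i j)
  push_cast at this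
  rw [this]
  simp only [smul_eq_mul]
  split_ifs <;> ring

/-- The action on the frame. -/
noncomputable def Rm (g : S) : Matrix (Fin 7) (Fin 7) ℂ := (12 : ℂ)⁻¹ • (Uc.transpose * M ℂ g * Uc)

theorem Uc_mul_Rm (g : S) : Uc * Rm g = M ℂ g * Uc := by
  have h1 : (Uc * Uc.transpose) * M ℂ g = M ℂ g * (Uc * Uc.transpose) := by
    rw [Uc_mul_transpose, sub_mul, mul_sub, M_mul_Sm, smul_mul_assoc, mul_smul_comm, one_mul, mul_one]
  calc Uc * Rm g = (12 : ℂ)⁻¹ • ((Uc * Uc.transpose) * M ℂ g * Uc) := by
        rw [Rm, Matrix.mul_smul, Matrix.mul_assoc Uc.transpose, ← Matrix.mul_assoc Uc,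
          Matrix.mul_assoc (Uc * Uc.transpose)]
    _ = (12 : ℂ)⁻¹ • (M ℂ g * (Uc * (Uc.transpose * Uc))) := by
        rw [h1, Matrix.mul_assoc, Matrix.mul_assoc]
    _ = M ℂ g * Uc := by
        rw [Uc_transpose_mul, Matrix.mul_smul, Matrix.mul_smul, Matrix.mul_one, smul_smul,
          inv_mul_cancel₀ (by norm_num), one_smul]

theorem Rm_mul (g h : S) : Rm g * Rm h = ((om2 g h : ℤ) : ℂ) • Rm (g * h) := by
  calc Rm g * Rm h = (12 : ℂ)⁻¹ • (Uc.transpose * M ℂ g * (Uc * Rm h)) := by
        rw [Rm, Matrix.smul_mul, Matrix.mul_assoc _ Uc]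
    _ = (12 : ℂ)⁻¹ • (Uc.transpose * (M ℂ g * M ℂ h) * Uc) := by
        rw [Uc_mul_Rm, ← Matrix.mul_assoc, Matrix.mul_assoc Uc.transpose]
    _ = _ := by
        rw [M_mul, Matrix.mul_smul, Matrix.smul_mul, smul_comm]
        rfl

theorem Rm_one : Rm 1 = 1 := by
  rw [Rm, M_one, Matrix.mul_one, Uc_transpose_mul, smul_smul, inv_mul_cancel₀ (by norm_num), one_smul]

theorem Rm_transpose_mul (g : S) : (Rm g).transpose * Rm g = 1 := by
  calc (Rm g).transpose * Rm g = (12 : ℂ)⁻¹ • (Uc.transpose * (M ℂ g).transpose * (Uc * Rm g)) := by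
        have : (Rm g).transpose = (12 : ℂ)⁻¹ • (Uc.transpose * (M ℂ g).transpose * Uc) := by
          rw [Rm, Matrix.transpose_smul, Matrix.transpose_mul, Matrix.transpose_mul,
            Matrix.transpose_transpose, Matrix.mul_assoc]
        rw [this, Matrix.smul_mul, Matrix.mul_assoc _ Uc]
    _ = (12 : ℂ)⁻¹ • (Uc.transpose * ((M ℂ g).transpose * M ℂ g) * Uc) := by
        rw [Uc_mul_Rm, ← Matrix.mul_assoc, Matrix.mul_assoc Uc.transpose]
    _ = 1 := by
        rw [M_transpose_mul, Matrix.mul_one, Uc_transpose_mul, smul_smul, inv_mul_cancel₀ (by norm_num),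
          one_smul]

/-- The sign. -/
noncomputable def dl (g : S) : ℂ := (Rm g).det

theorem dl_mul_self (g : S) : dl g * dl g = 1 := by
  have := congrArg Matrix.det (Rm_transpose_mul g)
  rwa [Matrix.det_mul, Matrix.det_transpose, Matrix.det_one] at this

theorem om2_cast_mul_self (g h : S) : ((om2 g h : ℤ) : ℂ) * ((om2 g h : ℤ) : ℂ) = 1 := by
  rw [← Int.cast_mul, om2_mul_self, Int.cast_one]

theorem dl_mul (g h : S) : dl g * dl h = ((om2 g h : ℤ) : ℂ) * dl (g * h) := by
  have := congrArg Matrix.det (Rm_mul g h)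
  rw [Matrix.det_mul, Matrix.det_smul, Fintype.card_fin] at this
  rw [dl, dl, this, dl]
  congr 1
  have h2 := om2_cast_mul_self g h
  calc ((om2 g h : ℤ) : ℂ) ^ 7 = (((om2 g h : ℤ) : ℂ) * ((om2 g h : ℤ) : ℂ)) ^ 3 * ((om2 g h : ℤ) : ℂ) := by
        ring
    _ = _ := by rw [h2, one_pow, one_mul]

theorem dl_one : dl 1 = 1 := by rw [dl, Rm_one, Matrix.det_one]

/-- The monomial representation of degree 28. -/
noncomputable def r28 : S →* Matrix Z Z ℂ where
  toFun g := dl g • M ℂ g
  map_one' := by rw [dl_one, M_one, one_smul]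
  map_mul' g h := by
    rw [Matrix.smul_mul, Matrix.mul_smul, M_mul, smul_smul, smul_smul, dl_mul, mul_assoc]
    congr 1
    linear_combination (-dl (g * h)) * om2_cast_mul_self g h

/-- The representation of degree 7. -/
noncomputable def r7 : S →* Matrix (Fin 7) (Fin 7) ℂ where
  toFun g := dl g • Rm g
  map_one' := by rw [dl_one, Rm_one, one_smul]
  map_mul' g h := by
    rw [Matrix.smul_mul, Matrix.mul_smul, Rm_mul, smul_smul, smul_smul, dl_mul, mul_assoc]
    congr 1
    linear_combination (-dl (g * h)) * om2_cast_mul_self g h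

theorem r28_apply (g : S) : r28 g = dl g • M ℂ g := rfl

theorem r7_apply (g : S) : r7 g = dl g • Rm g := rfl

theorem Uc_mul_r7 (g : S) : Uc * r7 g = r28 g * Uc := by
  rw [r7_apply, r28_apply, Matrix.mul_smul, Matrix.smul_mul, Uc_mul_Rm]

theorem transpose_mul_r28 (g : S) : Uc.transpose * r28 g = r7 g * Uc.transpose := by
  have h1 : (Uc * Uc.transpose) * r28 g = r28 g * (Uc * Uc.transpose) := by
    rw [r28_apply, Uc_mul_transpose, mul_smul_comm, smul_mul_assoc, sub_mul, mul_sub, M_mul_Sm,
      smul_mul_assoc, mul_smul_comm, one_mul, mul_one]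
  have h2 : Uc.transpose * ((Uc * Uc.transpose) * r28 g) = (12 : ℂ) • (Uc.transpose * r28 g) := by
    rw [← Matrix.mul_assoc, ← Matrix.mul_assoc, Uc_transpose_mul, Matrix.smul_mul, Matrix.one_mul,
      Matrix.smul_mul]
  have h3 : Uc.transpose * (r28 g * (Uc * Uc.transpose)) = (12 : ℂ) • (r7 g * Uc.transpose) := by
    rw [← Matrix.mul_assoc (r28 g), ← Uc_mul_r7, ← Matrix.mul_assoc, ← Matrix.mul_assoc,
      Uc_transpose_mul, Matrix.smul_mul, Matrix.one_mul, Matrix.smul_mul]
  have h4 : (12 : ℂ) • (Uc.transpose * r28 g) = (12 : ℂ) • (r7 g * Uc.transpose) := by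
    rw [← h2, ← h3, h1]
  have h5 := congrArg (fun X => (12 : ℂ)⁻¹ • X) h4
  simpa [smul_smul] using h5

/-- A monomial matrix. -/
def mono (p : Fin 7 → Fin 7) (k : Fin 7 → ℤ) : Matrix (Fin 7) (Fin 7) ℂ :=
  fun j i => if j = p i then ((k i : ℤ) : ℂ) else 0

/-- Computation of the action on the frame. -/
theorem Rm_eq (g : S) (p : Fin 7 → Fin 7) (k : Fin 7 → ℤ)
    (h : ∀ (b : Z) (i : Fin 7), eps g b * U b i = U (g • b) (p i) * k i) :
    Rm g = mono p k := by
  have h1 : M ℂ g * Uc = Uc * mono p k := by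
    ext a i
    rw [Matrix.mul_apply, Matrix.mul_apply]
    obtain ⟨b, rfl⟩ : ∃ b : Z, a = g • b := ⟨g⁻¹ • a, by rw [smul_inv_smul]⟩
    simp only [M, Uc, mono]
    rw [Finset.sum_eq_single b, Finset.sum_eq_single (p i)]
    · rw [if_pos rfl, if_pos rfl, ← Int.cast_mul, ← Int.cast_mul, h]
    · intro j _ hj
      rw [if_neg hj, mul_zero]
    · intro hc
      exact absurd (Finset.mem_univ _) hc
    · intro d _ hd
      rw [if_neg (fun h => hd (smul_left_cancel g h).symm), zero_mul]
    · intro hc
      exact absurd (Finset.mem_univ _) hc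
  rw [Rm, Matrix.mul_assoc, h1, ← Matrix.mul_assoc, Uc_transpose_mul, Matrix.smul_mul, Matrix.one_mul,
    smul_smul, inv_mul_cancel₀ (by norm_num), one_smul]

end Cfsg.Agent.H689.Sp6
end

-- part: H689/MatRep
section
/-!
# Characters of matrix representations
-/

set_option autoImplicit false

open scoped ComplexConjugate
open Cfsg Cfsg.Agent.Characters Representation Module

namespace Cfsg.Agent.H689.MatRep

variable {G : Type*} [Group G] {ι κ : Type*} [Fintype ι] [DecidableEq ι] [Fintype κ] [DecidableEq κ]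

/-- The representation given by matrices. -/
noncomputable def rep (ρ : G →* Matrix ι ι ℂ) : Representation ℂ G (ι → ℂ) where
  toFun g := Matrix.toLin' (ρ g)
  map_one' := by rw [map_one, Matrix.toLin'_one]; rfl
  map_mul' g h := by rw [map_mul, Matrix.toLin'_mul]; rfl

theorem isCharacter (ρ : G →* Matrix ι ι ℂ) : IsCharacter G (fun g => (ρ g).trace) := by
  have h := Core.isCharacter_of_rep (rep ρ)
  have h2 : (rep ρ).character = fun g => (ρ g).trace := by
    funext g
    show LinearMap.trace ℂ (ι → ℂ) (Matrix.toLin' (ρ g)) = _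
    rw [Matrix.trace_toLin'_eq]
  rwa [h2] at h

/-- The part of a representation cut out by a commuting idempotent. -/
theorem isCharacter_idem {V : Type*} [AddCommGroup V] [Module ℂ V] [FiniteDimensional ℂ V]
    (ρ : Representation ℂ G V) (E : Module.End ℂ V) (hE : E * E = E) (hc : ∀ g, E * ρ g = ρ g * E) :
    IsCharacter G (fun g => LinearMap.trace ℂ V (ρ g * E)) := by
  let W : Submodule ℂ V := LinearMap.range E
  have hW : ∀ w ∈ W, E w = w := by
    rintro w ⟨x, rfl⟩
    rw [← Module.End.mul_apply, hE]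
  have hg : ∀ (g : G) (w : V), w ∈ W → ρ g w ∈ W := by
    rintro g w ⟨x, rfl⟩
    refine ⟨ρ g x, ?_⟩
    rw [← Module.End.mul_apply, hc, Module.End.mul_apply]
  let σ : Representation ℂ G W :=
    { toFun := fun g => (ρ g).restrict (hg g)
      map_one' := by
        apply LinearMap.ext
        intro w
        apply Subtype.ext
        show ρ 1 (w : V) = w
        rw [map_one]
        rfl
      map_mul' := by
        intro g h
        apply LinearMap.ext
        intro w
        apply Subtype.ext
        show ρ (g * h) (w : V) = ρ g (ρ h (w : V))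
        rw [map_mul]
        rfl }
  have hσ : σ.character = fun g => LinearMap.trace ℂ V (ρ g * E) := by
    funext g
    have hmem : ∀ x, (ρ g * E) x ∈ W := by
      intro x
      rw [Module.End.mul_apply]
      exact hg g _ ⟨x, rfl⟩
    have h1 : σ g = (ρ g * E).restrict (fun v _ => hmem v) := by
      apply LinearMap.ext
      intro w
      apply Subtype.ext
      show ρ g (w : V) = ρ g (E (w : V))
      rw [hW _ w.2]
    show LinearMap.trace ℂ W (σ g) = _
    rw [h1, PermChar.SymAlt.trace_restrict]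
  rw [← hσ]
  exact Core.isCharacter_of_rep σ

theorem isCharacter_sub (ρ : G →* Matrix ι ι ℂ) (σ : G →* Matrix κ κ ℂ) (U : Matrix ι κ ℂ)
    (W : Matrix κ ι ℂ) (hWU : W * U = 1) (hU : ∀ g, U * σ g = ρ g * U) (hW : ∀ g, W * ρ g = σ g * W) :
    IsCharacter G (fun g => (ρ g).trace - (σ g).trace) := by
  have h1 : (1 - U * W) * (1 - U * W) = 1 - U * W := by
    rw [sub_mul, mul_sub, mul_sub, one_mul, mul_one, one_mul, Matrix.mul_assoc U W, ← Matrix.mul_assoc W,
      hWU, Matrix.one_mul]
    abel
  have h2 : ∀ g, (1 - U * W) * ρ g = ρ g * (1 - U * W) := by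
    intro g
    rw [sub_mul, mul_sub, one_mul, mul_one, Matrix.mul_assoc U, hW, ← Matrix.mul_assoc U, hU,
      Matrix.mul_assoc (ρ g)]
  have h3 := isCharacter_idem (rep ρ) (Matrix.toLin' (1 - U * W))
    (by rw [Module.End.mul_eq_comp, ← Matrix.toLin'_mul, h1])
    (by
      intro g
      show Matrix.toLin' _ * Matrix.toLin' (ρ g) = Matrix.toLin' (ρ g) * Matrix.toLin' _
      rw [Module.End.mul_eq_comp, Module.End.mul_eq_comp, ← Matrix.toLin'_mul, ← Matrix.toLin'_mul, h2])
  have h4 : (fun g => LinearMap.trace ℂ (ι → ℂ) (rep ρ g * Matrix.toLin' (1 - U * W))) =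
      fun g => (ρ g).trace - (σ g).trace := by
    funext g
    show LinearMap.trace ℂ (ι → ℂ) (Matrix.toLin' (ρ g) * Matrix.toLin' (1 - U * W)) = _
    rw [Module.End.mul_eq_comp, ← Matrix.toLin'_mul, Matrix.trace_toLin'_eq, mul_sub, mul_one,
      Matrix.trace_sub, ← Matrix.mul_assoc, ← hU, Matrix.mul_assoc, Matrix.trace_mul_comm U,
      Matrix.mul_assoc, hWU, Matrix.mul_one]
  rwa [h4] at h3

/-- A multiplicative family of matrices whose commutant consists of scalars has norm one. -/
theorem sum_trace_mul_trace [Fintype G] (ρ : G → Matrix ι ι ℂ) (hm : ∀ g h, ρ g * ρ h = ρ (g * h))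
    (ht : (ρ 1).trace ≠ 0)
    (hc : ∀ T : Matrix ι ι ℂ, (∀ g, ρ g * T = T * ρ g) → ρ 1 * T = T → ∃ c : ℂ, T = c • ρ 1) :
    ∑ g : G, (ρ g).trace * (ρ g⁻¹).trace = (Fintype.card G : ℂ) := by
  classical
  have key : ∀ i j : ι, ∃ c : ℂ, ∑ g : G, ρ g * Matrix.single i j (1 : ℂ) * ρ g⁻¹ = c • ρ 1 := by
    intro i j
    refine hc _ ?_ ?_
    · intro h
      rw [Finset.mul_sum, Finset.sum_mul]
      refine Fintype.sum_equiv (Equiv.mulLeft h) _ _ fun g => ?_
      show ρ h * (ρ g * Matrix.single i j 1 * ρ g⁻¹) = ρ (h * g) * Matrix.single i j 1 * ρ (h * g)⁻¹ * ρ h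
      rw [Matrix.mul_assoc (ρ (h * g) * _), hm, mul_inv_rev, inv_mul_cancel_right, ← hm h g,
        ← Matrix.mul_assoc, ← Matrix.mul_assoc]
    · rw [Finset.mul_sum]
      refine Finset.sum_congr rfl fun g _ => ?_
      rw [← Matrix.mul_assoc, ← Matrix.mul_assoc, hm, one_mul]
  choose c hcc using key
  have hcv : ∀ i j : ι, c i j * (ρ 1).trace = (Fintype.card G : ℂ) * ρ 1 j i := by
    intro i j
    have h1 := congrArg Matrix.trace (hcc i j)
    rw [Matrix.trace_smul, Matrix.trace_sum, smul_eq_mul] at h1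
    rw [← h1]
    have h2 : ∀ g : G, (ρ g * Matrix.single i j (1 : ℂ) * ρ g⁻¹).trace = ρ 1 j i := by
      intro g
      rw [Matrix.mul_assoc, Matrix.trace_mul_comm, Matrix.mul_assoc, hm, inv_mul_cancel,
        Matrix.trace_single_mul, one_smul]
    rw [Finset.sum_congr rfl fun g _ => h2 g, Finset.sum_const, Finset.card_univ, nsmul_eq_mul]
  have hent : ∀ i j : ι, ∑ g : G, ρ g i i * ρ g⁻¹ j j = c i j * ρ 1 i j := by
    intro i j
    have h1 := congrFun (congrFun (hcc i j) i) j
    rw [Matrix.sum_apply, Matrix.smul_apply, smul_eq_mul] at h1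
    rw [← h1]
    refine Finset.sum_congr rfl fun g _ => ?_
    rw [Matrix.mul_apply, Finset.sum_eq_single j]
    · rw [Matrix.mul_single_apply_same, mul_one]
    · intro k _ hk
      rw [Matrix.mul_single_apply_of_ne _ _ _ _ _ hk, zero_mul]
    · intro h
      exact absurd (Finset.mem_univ _) h
  have h5 : ∑ g : G, (ρ g).trace * (ρ g⁻¹).trace = ∑ i, ∑ j, c i j * ρ 1 i j := by
    rw [← Finset.sum_congr rfl fun i _ => Finset.sum_congr rfl fun j _ => hent i j]
    rw [Finset.sum_congr rfl fun i _ => Finset.sum_comm, Finset.sum_comm]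
    refine Finset.sum_congr rfl fun g _ => ?_
    rw [Matrix.trace, Matrix.trace, Finset.sum_mul_sum]
    rfl
  have h6 : (∑ i, ∑ j, c i j * ρ 1 i j) * (ρ 1).trace = (Fintype.card G : ℂ) * (ρ 1).trace := by
    have h7 : (ρ 1 * ρ 1).trace = (ρ 1).trace := by rw [hm, one_mul]
    rw [Matrix.trace, Matrix.trace] at h7
    simp only [Matrix.diag_apply, Matrix.mul_apply] at h7
    rw [Finset.sum_mul]
    rw [show (Fintype.card G : ℂ) * (ρ 1).trace = ∑ i, ∑ j, (Fintype.card G : ℂ) * (ρ 1 i j * ρ 1 j i) by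
      rw [Matrix.trace]
      simp only [Matrix.diag_apply]
      rw [← h7, Finset.mul_sum]
      refine Finset.sum_congr rfl fun i _ => ?_
      rw [Finset.mul_sum]]
    refine Finset.sum_congr rfl fun i _ => ?_
    rw [Finset.sum_mul]
    refine Finset.sum_congr rfl fun j _ => ?_
    linear_combination (ρ 1 i j) * hcv i j
  rw [h5]
  exact mul_right_cancel₀ ht h6

end Cfsg.Agent.H689.MatRep
end

-- part: H689/Sp6Alt
section
/-!
# The exterior square of the seven-dimensional representation of `Sp₆(2)` is irreducible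
-/

set_option autoImplicit false

open Cfsg.Agent.SporRec.TwoSp6.Sp Cfsg.Agent.H689.MatRep

namespace Cfsg.Agent.H689.Sp6

attribute [local irreducible] act Cfsg.sympForm

/-! ### elements -/

/-- The codes of the vectors of the frame. -/
def kc (i : Fin 7) : ℕ := [7, 4, 2, 5, 1, 3, 6].getD i.val 0

/-- The transvections of the frame. -/
def tv (j : Fin 7) : S := tr (enc (kc j))

theorem act_tv (j : Fin 7) (x : V) : act (tv j) x = x + om x (enc (kc j)) • enc (kc j) := act_tr _ _

theorem qN_kc : ∀ j : Fin 7, qN (kc j) = false := by decide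

theorem qf_kc (j : Fin 7) : qf (enc (kc j)) = 0 := by
  rw [qf_enc, qN_kc]
  rfl

theorem om_smul_self (c : ZMod 2) (u v : V) : om u (c • v) = c * om u v := by
  rw [om_eq, om_eq]
  simp only [Pi.smul_apply, smul_eq_mul]
  ring

theorem cg_tv (j : Fin 7) : cg (tv j) = enc (kc j) := by
  apply cg_eq
  intro x
  rcases om_cases x (enc (kc j)) with h | h
  · rw [act_tv, h, zero_smul, add_zero, h, add_zero]
  · have h1 : om (enc (kc j)) (enc (kc j)) = 0 := om_self _
    rw [act_tv, h, one_smul, qf_add, om_add_left, h, h1, qf_kc]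
    ring

theorem smul_tv_of_one (j : Fin 7) (a : Z) (h : om (a : V) (enc (kc j)) = 1) : tv j • a = a := by
  apply Subtype.ext
  rw [coe_smul, aff, act_tv, cg_tv, h, one_smul, add_assoc, add_self, add_zero]

theorem coe_smul_tv_of_zero (j : Fin 7) (a : Z) (h : om (a : V) (enc (kc j)) = 0) :
    ((tv j • a : Z) : V) = (a : V) + enc (kc j) := by
  rw [coe_smul, aff, act_tv, cg_tv, h, zero_smul, add_zero]

theorem code_xor (a : Z) (j : Fin 7) :
    code ((a : V) + enc (kc j)) = (⟨(code a.1).val ^^^ kc j, by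
      have h1 := (code a.1).2
      have h2 : kc j < 64 := by revert j; decide
      exact Nat.xor_lt_two_pow (n := 6) h1 h2⟩ : Fin 64) := by
  have h1 := code_enc ⟨(code a.1).val ^^^ kc j, by
      have h1 := (code a.1).2
      have h2 : kc j < 64 := by revert j; decide
      exact Nat.xor_lt_two_pow (n := 6) h1 h2⟩
  rw [← h1]
  congr 1
  show _ = enc ((code a.1).val ^^^ kc j)
  rw [enc_xor, enc_code]

theorem fN_tv_one : ∀ c : Fin 64, ∀ j : Fin 7, qN c → fN c (kc j) = true → uN c j = 0 := by decide +kernel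

theorem fN_tv_zero : ∀ c : Fin 64, ∀ j i : Fin 7, qN c → fN c (kc j) = false →
    uN c i = uN (c.val ^^^ kc j) i * (if i = j then 1 else -1) := by decide +kernel

theorem om_code (a : Z) (j : Fin 7) : om (a : V) (enc (kc j)) = if fN (code a.1) (kc j) then 1 else 0 := by
  rw [← om_enc, enc_code]

theorem Rm_tv (j : Fin 7) : Rm (tv j) = mono id (fun i => if i = j then 1 else -1) := by
  apply Rm_eq
  intro a i
  rcases om_cases (a : V) (enc (kc j)) with h | h
  · have hf : fN (code a.1) (kc j) = false := by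
      by_contra hcon
      rw [Bool.not_eq_false] at hcon
      rw [om_code, hcon] at h
      exact absurd h (by decide)
    have h1 : eps (tv j) a = 1 := by
      unfold eps
      have h2 : om (enc (kc j)) (enc (kc j)) = 0 := om_self _
      rw [coe_smul_tv_of_zero j a h, cg_tv, om_add_left, h, h2]
      rfl
    rw [h1, one_mul]
    show uN (code a.1) i = uN (code ((tv j • a : Z) : V)) i * _
    rw [coe_smul_tv_of_zero j a h, code_xor]
    exact fN_tv_zero (code a.1) j i (qN_code a) hf
  · have hf : fN (code a.1) (kc j) = true := by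
      by_contra hcon
      rw [Bool.not_eq_true] at hcon
      rw [om_code, hcon] at h
      exact absurd h (by decide)
    have h1 : eps (tv j) a = -1 := by
      unfold eps
      rw [smul_tv_of_one j a h, cg_tv, h]
      rfl
    rw [h1, smul_tv_of_one j a h]
    by_cases hij : i = j
    · subst hij
      have h2 : U a i = 0 := fN_tv_one (code a.1) i (qN_code a) hf
      simp [h2]
    · simp [hij]

/-- A Singer cycle. -/
def sg : S := ⟨Cfsg.Agent.SporRec.Co3.V !![1, 1, 0; 1, 0, 1; 0, 1, 0] !![1, 0, 1; 0, 0, 1; 1, 1, 1],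
  Cfsg.Agent.SporRec.Co3.V_mem (by decide)⟩

/-- A Frobenius map. -/
def fr : S := ⟨Cfsg.Agent.SporRec.Co3.V !![0, 1, 0; 0, 0, 1; 1, 0, 0] !![0, 1, 0; 0, 0, 1; 1, 0, 0],
  Cfsg.Agent.SporRec.Co3.V_mem (by decide)⟩

/-- The Singer cycle on codes. -/
def sC (c : ℕ) : ℕ := [0, 3, 5, 6, 2, 1, 7, 4, 40, 43, 45, 46, 42, 41, 47, 44, 32, 35, 37, 38, 34, 33, 39, 36, 8,
  11, 13, 14, 10, 9, 15, 12, 56, 59, 61, 62, 58, 57, 63, 60, 16, 19, 21, 22, 18, 17, 23, 20, 24, 27, 29, 30, 26,
  25, 31, 28, 48, 51, 53, 54, 50, 49, 55, 52].getD c 0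

/-- The Frobenius map on codes. -/
def fC (c : ℕ) : ℕ := [0, 4, 1, 5, 2, 6, 3, 7, 32, 36, 33, 37, 34, 38, 35, 39, 8, 12, 9, 13, 10, 14, 11, 15, 40,
  44, 41, 45, 42, 46, 43, 47, 16, 20, 17, 21, 18, 22, 19, 23, 48, 52, 49, 53, 50, 54, 51, 55, 24, 28, 25, 29,
  26, 30, 27, 31, 56, 60, 57, 61, 58, 62, 59, 63].getD c 0

theorem act_sg : ∀ c : Fin 64, act sg (enc c) = enc (sC c) := by decide +kernel

theorem act_fr : ∀ c : Fin 64, act fr (enc c) = enc (fC c) := by decide +kernel

theorem sC_lt : ∀ c : Fin 64, sC c < 64 := by decide +kernel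
theorem fC_lt : ∀ c : Fin 64, fC c < 64 := by decide +kernel

theorem qN_sC : ∀ c : Fin 64, qN (sC c) = qN c := by decide +kernel
theorem qN_fC : ∀ c : Fin 64, qN (fC c) = qN c := by decide +kernel

theorem om_zero_right (v : V) : om v 0 = 0 := by
  rw [show (0 : V) = v + v from (add_self v).symm, om_add_right, z2_add_self]

/-- Elements preserving the form act by permutations. -/
theorem Rm_of_table (g : S) (t : ℕ → ℕ) (p : Fin 7 → Fin 7) (ha : ∀ c : Fin 64, act g (enc c) = enc (t c))
    (hlt : ∀ c : Fin 64, t c < 64) (hq : ∀ c : Fin 64, qN (t c) = qN c)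
    (hu : ∀ (c : Fin 64) (i : Fin 7), qN c → uN c i = uN (t c) (p i)) : Rm g = mono p (fun _ => 1) := by
  have hcg : cg g = 0 := by
    apply cg_eq
    intro v
    rw [om_zero_right, add_zero, ← enc_code v, ha, qf_enc, qf_enc, hq]
  apply Rm_eq
  intro a i
  have h1 : eps g a = 1 := by
    unfold eps
    rw [hcg, om_zero_right]
    rfl
  have h2 : ((g • a : Z) : V) = enc (t (code a.1)) := by
    rw [coe_smul, aff, hcg, add_zero]
    conv_lhs => rw [← enc_code a.1]
    exact ha _
  rw [h1, one_mul, mul_one]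
  show uN (code a.1) i = uN (code ((g • a : Z) : V)) (p i)
  have h3 := code_enc ⟨t (code a.1), hlt _⟩
  rw [h2]
  show _ = uN (code (enc (⟨t (code a.1), hlt _⟩ : Fin 64))) (p i)
  rw [h3]
  exact hu _ i (qN_code a)

theorem Rm_sg : Rm sg = mono (fun i => i + 1) (fun _ => 1) :=
  Rm_of_table sg sC _ act_sg sC_lt qN_sC (by decide +kernel)

theorem Rm_fr : Rm fr = mono (fun i => 2 * i) (fun _ => 1) :=
  Rm_of_table fr fC _ act_fr fC_lt qN_fC (by decide +kernel)

/-! ### the commutant -/

open Matrix

/-- The projection onto the alternating tensors. -/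
noncomputable def alt : Matrix (Fin 7 × Fin 7) (Fin 7 × Fin 7) ℂ := fun x y =>
  (2 : ℂ)⁻¹ * ((if x = y then 1 else 0) - (if x = y.swap then 1 else 0))

/-- The tensor square. -/
noncomputable def ts (A : Matrix (Fin 7) (Fin 7) ℂ) : Matrix (Fin 7 × Fin 7) (Fin 7 × Fin 7) ℂ :=
  fun x y => A x.1 y.1 * A x.2 y.2

theorem ts_mul (A B : Matrix (Fin 7) (Fin 7) ℂ) : ts A * ts B = ts (A * B) := by
  ext x y
  rw [mul_apply, Fintype.sum_prod_type]
  simp only [ts, mul_apply]
  rw [Finset.sum_mul_sum]
  refine Finset.sum_congr rfl fun i _ => Finset.sum_congr rfl fun j _ => ?_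
  ring

theorem mul_alt_apply (T : Matrix (Fin 7 × Fin 7) (Fin 7 × Fin 7) ℂ) (x y : Fin 7 × Fin 7) :
    (T * alt) x y = (2 : ℂ)⁻¹ * (T x y - T x y.swap) := by
  rw [mul_apply]
  simp only [alt, mul_sub, mul_ite, mul_one, mul_zero, Finset.sum_sub_distrib, Finset.sum_ite_eq',
    Finset.mem_univ, if_true]
  ring

theorem alt_mul_apply (T : Matrix (Fin 7 × Fin 7) (Fin 7 × Fin 7) ℂ) (x y : Fin 7 × Fin 7) :
    (alt * T) x y = (2 : ℂ)⁻¹ * (T x y - T x.swap y) := by
  have h : ∀ z : Fin 7 × Fin 7, x = z.swap ↔ x.swap = z := by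
    intro z
    constructor
    · rintro rfl
      exact Prod.swap_swap z
    · rintro rfl
      exact (Prod.swap_swap x).symm
  rw [mul_apply]
  simp only [alt, mul_sub, sub_mul, ite_mul, mul_ite, mul_one, mul_zero, zero_mul, h, Finset.sum_sub_distrib,
    Finset.sum_ite_eq, Finset.mem_univ, if_true]

theorem ts_mul_alt (A : Matrix (Fin 7) (Fin 7) ℂ) : ts A * alt = alt * ts A := by
  ext x y
  rw [mul_alt_apply, alt_mul_apply]
  simp only [ts, Prod.fst_swap, Prod.snd_swap]
  ring

theorem alt_mul_alt : alt * alt = alt := by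
  ext x y
  rw [mul_alt_apply]
  have h : (x = y.swap.swap) = (x = y) := by rw [Prod.swap_swap]
  simp only [alt, Prod.swap_swap]
  ring

theorem ts_one : ts 1 = 1 := by
  ext x y
  simp only [ts, one_apply, Prod.ext_iff]
  split_ifs <;> simp_all

/-- The exterior square, as a family of matrices. -/
noncomputable def r21 (g : S) : Matrix (Fin 7 × Fin 7) (Fin 7 × Fin 7) ℂ := ts (r7 g) * alt

theorem r21_mul (g h : S) : r21 g * r21 h = r21 (g * h) := by
  rw [r21, r21, r21, map_mul, ← ts_mul, Matrix.mul_assoc, ← Matrix.mul_assoc alt, ← ts_mul_alt,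
    Matrix.mul_assoc, alt_mul_alt, Matrix.mul_assoc]

theorem r21_one : r21 1 = alt := by
  rw [r21, map_one, ts_one, Matrix.one_mul]

theorem ts_r7 (g : S) : ts (r7 g) = ts (Rm g) := by
  ext x y
  simp only [ts, r7_apply, Matrix.smul_apply, smul_eq_mul]
  linear_combination (Rm g x.1 y.1 * Rm g x.2 y.2) * dl_mul_self g

theorem trace_alt : alt.trace = 21 := by
  rw [Matrix.trace]
  simp only [diag_apply, alt, if_true]
  rw [← Finset.mul_sum, Finset.sum_sub_distrib]
  have h : ∑ x : Fin 7 × Fin 7, (if x = x.swap then (1 : ℂ) else 0) = 7 := by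
    rw [Finset.sum_ite, Finset.sum_const_zero, add_zero, Finset.sum_const]
    have : (Finset.univ.filter fun x : Fin 7 × Fin 7 => x = x.swap).card = 7 := by decide
    rw [this]
    norm_num
  rw [h]
  simp only [_root_.Finset.sum_const, _root_.Finset.card_univ, _root_.Fintype.card_prod, _root_.Fintype.card_fin, _root_.Nat.reduceMul, _root_.nsmul_eq_mul, _root_.Nat.cast_ofNat, _root_.mul_one]
  norm_num

theorem trace_r21 (g : S) : (r21 g).trace = ((r7 g).trace ^ 2 - (r7 (g * g)).trace) / 2 := by
  rw [Matrix.trace]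
  simp only [diag_apply, r21]
  simp only [mul_alt_apply]
  rw [← Finset.mul_sum, Finset.sum_sub_distrib]
  have h1 : ∑ x : Fin 7 × Fin 7, ts (r7 g) x x = (r7 g).trace ^ 2 := by
    rw [Fintype.sum_prod_type, Matrix.trace, pow_two, Finset.sum_mul_sum]
    rfl
  have h2 : ∑ x : Fin 7 × Fin 7, ts (r7 g) x x.swap = (r7 (g * g)).trace := by
    rw [Fintype.sum_prod_type, map_mul, Matrix.trace]
    simp only [diag_apply, mul_apply]
    rfl
  rw [h1, h2]
  ring

theorem ts_mono_mul (p : Fin 7 → Fin 7) (hp : Function.Injective p) (k : Fin 7 → ℤ)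
    (T : Matrix (Fin 7 × Fin 7) (Fin 7 × Fin 7) ℂ) (i j : Fin 7) (y : Fin 7 × Fin 7) :
    (ts (mono p k) * T) (p i, p j) y = (k i : ℂ) * k j * T (i, j) y := by
  rw [mul_apply, Finset.sum_eq_single (i, j)]
  · simp [ts, mono]
  · rintro ⟨a, b⟩ _ hab
    simp only [ts, mono]
    by_cases h1 : p i = p a
    · by_cases h2 : p j = p b
      · exact absurd (by rw [hp h1, hp h2]) hab
      · rw [if_neg h2, mul_zero, zero_mul]
    · rw [if_neg h1, zero_mul, zero_mul]
  · intro hc
    exact absurd (Finset.mem_univ _) hc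

theorem mul_ts_mono (p : Fin 7 → Fin 7) (k : Fin 7 → ℤ)
    (T : Matrix (Fin 7 × Fin 7) (Fin 7 × Fin 7) ℂ) (x : Fin 7 × Fin 7) (i j : Fin 7) :
    (T * ts (mono p k)) x (i, j) = T x (p i, p j) * (k i * k j) := by
  rw [mul_apply, Finset.sum_eq_single (p i, p j)]
  · simp [ts, mono]
  · rintro ⟨a, b⟩ _ hab
    simp only [ts, mono]
    by_cases h1 : a = p i
    · by_cases h2 : b = p j
      · exact absurd (by rw [h1, h2]) hab
      · rw [if_neg h2, mul_zero, mul_zero]
    · rw [if_neg h1, zero_mul, mul_zero]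
  · intro hc
    exact absurd (Finset.mem_univ _) hc

/-- A symmetric function on pairs invariant under translations and doubling is constant. -/
theorem const_of_invariant (t : Fin 7 → Fin 7 → ℂ) (h1 : ∀ i j, t (i + 1) (j + 1) = t i j)
    (h2 : ∀ i j, t (2 * i) (2 * j) = t i j) (h3 : ∀ i j, t j i = t i j) (i j : Fin 7) (hij : i ≠ j) :
    t i j = t 0 1 := by
  have hn : ∀ (n : ℕ) (a b : Fin 7), t (a + n • 1) (b + n • 1) = t a b := by
    intro n
    induction n with
    | zero => intro a b; simp
    | succ n ih =>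
      intro a b
      rw [succ_nsmul, ← add_assoc, ← add_assoc, h1, ih]
  have hv : ∀ a : Fin 7, a.val • (1 : Fin 7) = a := by decide
  have hred : ∀ a b : Fin 7, t a b = t 0 (b - a) := by
    intro a b
    have := hn a.val 0 (b - a)
    rw [hv, zero_add, sub_add_cancel] at this
    exact this
  have e2 : t 0 2 = t 0 1 := h2 0 1
  have e4 : t 0 4 = t 0 2 := h2 0 2
  have e6 : t 0 6 = t 0 1 := by
    rw [← h3 0 1, hred 1 0]
    rfl
  have e5 : t 0 5 = t 0 6 := h2 0 6
  have e3 : t 0 3 = t 0 5 := h2 0 5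
  rw [hred i j]
  have hd : j - i ≠ 0 := sub_ne_zero.2 (Ne.symm hij)
  generalize j - i = d at hd
  fin_cases d
  · exact absurd rfl hd
  · rfl
  · exact e2
  · exact e3.trans (e5.trans e6)
  · exact e4.trans e2
  · exact e5.trans e6
  · exact e6

theorem commutant (T : Matrix (Fin 7 × Fin 7) (Fin 7 × Fin 7) ℂ) (hT : ∀ g, r21 g * T = T * r21 g)
    (h1 : r21 1 * T = T) : ∃ c : ℂ, T = c • r21 1 := by
  have hT1 := hT 1
  rw [r21_one] at h1 hT1 ⊢
  have hr : T * alt = T := by rw [← hT1, h1]
  have hcomm : ∀ g, ts (Rm g) * T = T * ts (Rm g) := by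
    intro g
    have h2 := hT g
    rw [r21, ts_r7, Matrix.mul_assoc, h1, ts_mul_alt, ← Matrix.mul_assoc, hr] at h2
    exact h2
  have hsl : ∀ x y, T x.swap y = -T x y := by
    intro x y
    have h2 := congrFun (congrFun h1 x) y
    rw [alt_mul_apply] at h2
    linear_combination 2 * (-h2)
  have hsr : ∀ x y, T x y.swap = -T x y := by
    intro x y
    have h2 := congrFun (congrFun hr x) y
    rw [mul_alt_apply] at h2
    linear_combination 2 * (-h2)
  have hmono : ∀ (g : S) (p : Fin 7 → Fin 7) (k : Fin 7 → ℤ), Function.Injective p → Rm g = mono p k →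
      ∀ i j m l : Fin 7, (k i : ℂ) * k j * T (i, j) (m, l) = T (p i, p j) (p m, p l) * (k m * k l) := by
    intro g p k hp hg i j m l
    have h2 := congrFun (congrFun (hcomm g) (p i, p j)) (m, l)
    rw [hg, ts_mono_mul p hp, mul_ts_mono] at h2
    exact h2
  have hz : ∀ i j m l : Fin 7, i ≠ j → i ≠ m → i ≠ l → T (i, j) (m, l) = 0 := by
    intro i j m l hij him hil
    have h2 := hmono (tv i) id _ Function.injective_id (Rm_tv i) i j m l
    rw [if_pos rfl, if_neg (Ne.symm hij), if_neg (Ne.symm him), if_neg (Ne.symm hil)] at h2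
    simp only [id] at h2
    push_cast at h2
    linear_combination (-1 / 2 : ℂ) * h2
  have hdiag : ∀ i j : Fin 7, i ≠ j → T (i, j) (i, j) = T (0, 1) (0, 1) := by
    refine const_of_invariant (fun i j => T (i, j) (i, j)) ?_ ?_ ?_
    · intro i j
      have h2 := hmono sg _ _ (by decide) Rm_sg i j i j
      simp only [Int.cast_one, one_mul, mul_one] at h2
      exact h2.symm
    · intro i j
      have h2 := hmono fr _ _ (by decide) Rm_fr i j i j
      simp only [Int.cast_one, one_mul, mul_one] at h2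
      exact h2.symm
    · intro i j
      have h2 := hsl (i, j) (j, i)
      have h3 := hsr (i, j) (i, j)
      simp only [Prod.swap_prod_mk] at h2 h3
      show T (j, i) (j, i) = T (i, j) (i, j)
      rw [h2, h3, neg_neg]
  refine ⟨2 * T (0, 1) (0, 1), ?_⟩
  ext ⟨i, j⟩ ⟨m, l⟩
  rw [Matrix.smul_apply, smul_eq_mul]
  by_cases hij : i = j
  · subst hij
    have h2 := hsl (i, i) (m, l)
    simp only [Prod.swap_prod_mk] at h2
    have h3 : T (i, i) (m, l) = 0 := by linear_combination (1 / 2 : ℂ) * h2
    rw [h3]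
    have h4 : ((i, i) = ((m, l) : Fin 7 × Fin 7)) = ((i, i) = ((m, l) : Fin 7 × Fin 7).swap) := by
      simp only [Prod.swap_prod_mk, Prod.mk.injEq]
      exact propext ⟨fun h => ⟨h.2, h.1⟩, fun h => ⟨h.2, h.1⟩⟩
    simp only [alt, h4, sub_self, mul_zero]
  by_cases hml : m = l
  · subst hml
    have h2 := hsr (i, j) (m, m)
    simp only [Prod.swap_prod_mk] at h2
    have h3 : T (i, j) (m, m) = 0 := by linear_combination (1 / 2 : ℂ) * h2
    rw [h3]
    simp only [alt, Prod.swap_prod_mk, sub_self, mul_zero]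
  by_cases h5 : i = m
  · subst h5
    by_cases h6 : j = l
    · subst h6
      rw [hdiag i j hij]
      have h7 : ¬ ((i, j) = ((i, j) : Fin 7 × Fin 7).swap) := by
        simp only [Prod.swap_prod_mk, Prod.mk.injEq]
        exact fun h => hij h.1
      simp only [alt, h7, if_true, if_false]
      ring
    · have h8 : T (j, i) (i, l) = 0 := hz j i i l (Ne.symm hij) (Ne.symm hij) h6
      have h9 := hsl (j, i) (i, l)
      simp only [Prod.swap_prod_mk] at h9
      rw [h9, h8]
      have h7 : ¬ ((i, j) = ((i, l) : Fin 7 × Fin 7)) := by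
        simp only [Prod.mk.injEq]
        exact fun h => h6 h.2
      have h10 : ¬ ((i, j) = ((i, l) : Fin 7 × Fin 7).swap) := by
        simp only [Prod.swap_prod_mk, Prod.mk.injEq]
        exact fun h => hml h.1
      simp only [alt, h7, h10, if_false]
      ring
  by_cases h6 : i = l
  · subst h6
    by_cases h7 : j = m
    · subst h7
      have h8 := hsr (i, j) (i, j)
      simp only [Prod.swap_prod_mk] at h8
      rw [h8, hdiag i j hij]
      have h9 : ¬ ((i, j) = ((j, i) : Fin 7 × Fin 7)) := by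
        simp only [Prod.mk.injEq]
        exact fun h => hij h.1
      simp only [alt, h9, Prod.swap_prod_mk, if_true, if_false]
      ring
    · have h8 : T (j, i) (m, i) = 0 := hz j i m i (Ne.symm hij) h7 (Ne.symm hij)
      have h9 := hsl (j, i) (m, i)
      simp only [Prod.swap_prod_mk] at h9
      rw [h9, h8]
      have h10 : ¬ ((i, j) = ((m, i) : Fin 7 × Fin 7)) := by
        simp only [Prod.mk.injEq]
        exact fun h => h5 h.1
      have h11 : ¬ ((i, j) = ((m, i) : Fin 7 × Fin 7).swap) := by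
        simp only [Prod.swap_prod_mk, Prod.mk.injEq]
        exact fun h => h7 h.2
      simp only [alt, h10, h11, if_false]
      ring
  rw [hz i j m l hij h5 h6]
  have h10 : ¬ ((i, j) = ((m, l) : Fin 7 × Fin 7)) := by
    simp only [Prod.mk.injEq]
    exact fun h => h5 h.1
  have h11 : ¬ ((i, j) = ((m, l) : Fin 7 × Fin 7).swap) := by
    simp only [Prod.swap_prod_mk, Prod.mk.injEq]
    exact fun h => h6 h.1
  simp only [alt, h10, h11, if_false]
  ring

theorem sum_r21 [Fintype S] : ∑ g : S, (r21 g).trace * (r21 g⁻¹).trace = (Fintype.card S : ℂ) :=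
  sum_trace_mul_trace r21 r21_mul (by rw [r21_one, trace_alt]; norm_num) commutant

end Cfsg.Agent.H689.Sp6
end

-- part: H689/Sp6Two
section
/-!
# `Sp₆(2)` has two irreducible characters of degree 21
-/

set_option autoImplicit false

open scoped ComplexConjugate
open Cfsg Cfsg.Agent.SporRec.TwoSp6.Sp Cfsg.Agent.H689.MatRep Cfsg.Agent.Characters

namespace Cfsg.Agent.H689.Sp6

attribute [local irreducible] act Cfsg.sympForm

/-! ### two-transitivity -/

theorem om_smul_right (c : ZMod 2) (u v : V) : om u (c • v) = c * om u v := om_smul_self c u v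

theorem cg_tr (v : V) : cg (tr v) = (qf v + 1) • v := by
  apply cg_eq
  intro x
  rcases om_cases x v with h | h
  · rw [act_tr, h, zero_smul, add_zero, om_smul_right, h, mul_zero, add_zero]
  · have h1 : om v v = 0 := om_self _
    rw [act_tr, h, one_smul, om_smul_right, qf_add, om_add_left, h, h1]
    ring

theorem coe_tr_smul (v : V) (a : Z) : ((tr v • a : Z) : V) = (a : V) + (om (a : V) v + qf v + 1) • v := by
  rw [coe_smul, aff, act_tr, cg_tr, add_assoc, ← add_smul, add_assoc]

theorem tr_smul_self (a b : Z) : tr ((a : V) + b) • a = b := by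
  apply Subtype.ext
  have h1 : om (a : V) a = 0 := om_self _
  have h2 : om (a : V) ((a : V) + b) + qf ((a : V) + b) + 1 = 1 := by
    rw [om_add_right, qf_add, a.2, b.2, h1]
    linear_combination (om (a : V) b + 1) * z2_two
  rw [coe_tr_smul, h2, one_smul, ← add_assoc, add_self, zero_add]

theorem tr_smul_of (a b c : Z) (h : om (c : V) a + om (c : V) b + om (a : V) b = 1) :
    tr ((a : V) + b) • c = c := by
  apply Subtype.ext
  have h2 : om (c : V) ((a : V) + b) + qf ((a : V) + b) + 1 = 0 := by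
    rw [om_add_right, qf_add, a.2, b.2]
    linear_combination h + 2 * z2_two
  rw [coe_tr_smul, h2, zero_smul, add_zero]

instance : MulAction.IsPretransitive S Z := ⟨fun a b => ⟨_, tr_smul_self a b⟩⟩

/-- The condition for a step. -/
def good (x y : ℕ) : Bool := fN 9 x ^^ (fN 9 y ^^ fN x y)

theorem steps : ∀ b : Fin 64, qN b → b ≠ 9 → b = 11 ∨ good 11 b ∨
    ∃ d : Fin 64, qN d ∧ good 11 d ∧ good d b := by decide +kernel

/-- The point with a given code. -/
def pt (c : ℕ) (h : qN c = true) : Z := ⟨enc c, by rw [qf_enc, h]; rfl⟩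

theorem step_of_good (x y : ℕ) (hx : qN x = true) (hy : qN y = true) (h : good x y = true) :
    ∃ g : S, g • pt 9 (by decide) = pt 9 (by decide) ∧ g • pt x hx = pt y hy := by
  refine ⟨tr ((pt x hx : V) + pt y hy), tr_smul_of _ _ _ ?_, tr_smul_self _ _⟩
  show om (enc 9) (enc x) + om (enc 9) (enc y) + om (enc x) (enc y) = 1
  rw [om_enc, om_enc, om_enc]
  unfold good at h
  revert h
  cases fN 9 x <;> cases fN 9 y <;> cases fN x y <;> decide

theorem exists_fix (b : Z) (hb : b ≠ pt 9 (by decide)) :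
    ∃ g : S, g • pt 9 (by decide) = pt 9 (by decide) ∧ g • pt 11 (by decide) = b := by
  have hb2 : b = pt (code b.1) (qN_code b) := Subtype.ext (enc_code _).symm
  have hb3 : code b.1 ≠ 9 := by
    intro h
    apply hb
    rw [hb2]
    apply Subtype.ext
    show enc (code b.1) = enc 9
    rw [h]
    rfl
  rcases steps (code b.1) (qN_code b) hb3 with h | h | ⟨d, hd, h1, h2⟩
  · refine ⟨1, one_smul _ _, ?_⟩
    rw [one_smul]
    conv_rhs => rw [hb2]
    apply Subtype.ext
    show enc 11 = enc (code b.1)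
    rw [h]
    rfl
  · obtain ⟨g, hg1, hg2⟩ := step_of_good 11 (code b.1) (by decide) (qN_code b) h
    exact ⟨g, hg1, by rw [hg2, ← hb2]⟩
  · obtain ⟨g, hg1, hg2⟩ := step_of_good 11 d (by decide) hd h1
    obtain ⟨k, hk1, hk2⟩ := step_of_good d (code b.1) hd (qN_code b) h2
    exact ⟨k * g, by rw [mul_smul, hg1, hk1], by rw [mul_smul, hg2, hk2, ← hb2]⟩

theorem two_transitive : MulAction.IsMultiplyPretransitive S Z 2 := by
  rw [MulAction.is_two_pretransitive_iff]
  have key : ∀ a b : Z, a ≠ b → ∃ g : S, g • pt 9 (by decide) = a ∧ g • pt 11 (by decide) = b := by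
    intro a b hab
    obtain ⟨g, hg⟩ := MulAction.exists_smul_eq S (pt 9 (by decide)) a
    have h1 : g⁻¹ • b ≠ pt 9 (by decide) := by
      intro h
      apply hab
      rw [← hg, ← h, smul_inv_smul]
    obtain ⟨k, hk1, hk2⟩ := exists_fix _ h1
    exact ⟨g * k, by rw [mul_smul, hk1, hg], by rw [mul_smul, hk2, smul_inv_smul]⟩
  intro a b c d hab hcd
  obtain ⟨g, hg1, hg2⟩ := key a b hab
  obtain ⟨k, hk1, hk2⟩ := key c d hcd
  refine ⟨k * g⁻¹, ?_, ?_⟩
  · rw [mul_smul, ← hg1, inv_smul_smul, hk1]
  · rw [mul_smul, ← hg2, inv_smul_smul, hk2]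

/-! ### the monomial character -/

theorem trace_M (g : S) : (M ℂ g).trace = ∑ a : Z, if g • a = a then ((eps g a : ℤ) : ℂ) else 0 := by
  rw [Matrix.trace]
  refine Finset.sum_congr rfl fun a _ => ?_
  simp only [Matrix.diag_apply, M, eq_comm]

theorem eps_mul_eps (g : S) (a b : Z) (ha : g • a = a) (hb : g • b = b) : eps g a * eps g b = 1 := by
  have h := sgn_om_smul g a b
  rw [ha, hb] at h
  have h2 := sgn_mul_self (om (a : V) b)
  linear_combination (-sgn (om (a : V) b)) * h + (1 - eps g a * eps g b) * h2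

theorem trace_M_sq (g : S) : (M ℂ g).trace ^ 2 = (Nat.card (MulAction.fixedBy Z g) : ℂ) ^ 2 := by
  classical
  have h1 : (M ℂ g).trace = ∑ a ∈ Finset.univ.filter (fun a : Z => g • a = a), ((eps g a : ℤ) : ℂ) := by
    rw [trace_M, Finset.sum_filter]
  have h2 : Nat.card (MulAction.fixedBy Z g) = (Finset.univ.filter (fun a : Z => g • a = a)).card := by
    rw [Nat.card_eq_fintype_card, Fintype.card_subtype]
    rfl
  rw [h1, h2, pow_two, pow_two, Finset.sum_mul_sum]
  rw [Finset.sum_congr rfl fun a ha => Finset.sum_congr rfl fun b hb => by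
    rw [← Int.cast_mul, eps_mul_eps g a b (Finset.mem_filter.1 ha).2 (Finset.mem_filter.1 hb).2, Int.cast_one]]
  simp only [_root_.Finset.sum_const, _root_.nsmul_eq_mul, _root_.mul_one]

theorem conj_dl (g : S) : conj (dl g) = dl g := by
  rcases mul_self_eq_one_iff.1 (dl_mul_self g) with h | h <;> rw [h] <;> simp only [_root_.map_one, _root_.map_neg]

/-- The character of degree 28. -/
noncomputable def ch28 (g : S) : ℂ := (r28 g).trace

/-- The character of degree 7. -/
noncomputable def ch7 (g : S) : ℂ := (r7 g).trace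

/-- The second character of degree 21. -/
noncomputable def ch21 (g : S) : ℂ := ch28 g - ch7 g

/-- The exterior square. -/
noncomputable def chL (g : S) : ℂ := (ch7 g ^ 2 - ch7 (g * g)) / 2

theorem isCharacter_ch7 : IsCharacter S ch7 := MatRep.isCharacter r7

theorem isCharacter_chL : IsCharacter S chL := PermChar.SymAlt.isCharacter_altSq isCharacter_ch7

theorem isCharacter_ch21 : IsCharacter S ch21 := by
  refine MatRep.isCharacter_sub r28 r7 Uc ((12 : ℂ)⁻¹ • Uc.transpose) ?_ Uc_mul_r7 ?_
  · rw [Matrix.smul_mul, Uc_transpose_mul, smul_smul, inv_mul_cancel₀ (by norm_num), one_smul]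
  · intro g
    rw [Matrix.smul_mul, transpose_mul_r28, Matrix.mul_smul]

theorem ch28_eq (g : S) : ch28 g = dl g * (M ℂ g).trace := by
  rw [ch28, r28_apply, Matrix.trace_smul, smul_eq_mul]

theorem ch7_eq (g : S) : ch7 g = dl g * (Rm g).trace := by
  rw [ch7, r7_apply, Matrix.trace_smul, smul_eq_mul]

theorem conj_ch28 (g : S) : conj (ch28 g) = ch28 g := by
  rw [ch28_eq, map_mul, conj_dl]
  congr 1
  rw [trace_M, map_sum]
  refine Finset.sum_congr rfl fun a _ => ?_
  split_ifs <;> simp

theorem ch28_mul_conj (g : S) : ch28 g * conj (ch28 g) = (Nat.card (MulAction.fixedBy Z g) : ℂ) ^ 2 := by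
  rw [conj_ch28, ch28_eq, ← trace_M_sq]
  linear_combination ((M ℂ g).trace ^ 2) * dl_mul_self g

theorem classInner_ch28 [Fintype S] : classInner ch28 ch28 = 2 := by
  have hirr : IsIrrCharacter S (fun g => (Nat.card (MulAction.fixedBy Z g) : ℂ) - 1) :=
    (Cfsg.Agent.S0157.result Z (by rw [Nat.card_eq_fintype_card, card_Z]; norm_num)).2 two_transitive
  have hone : IsIrrCharacter S (1 : S → ℂ) := Core.isIrr_one
  have hne : (fun g : S => (Nat.card (MulAction.fixedBy Z g) : ℂ) - 1) ≠ 1 := by
    intro h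
    have h1 := congrFun h 1
    have h2 : Nat.card (MulAction.fixedBy Z (1 : S)) = 28 := by
      rw [Nat.card_congr (Equiv.subtypeUnivEquiv (fun x => by rw [MulAction.mem_fixedBy, one_smul])),
        Nat.card_eq_fintype_card, card_Z]
    simp only [h2, Pi.one_apply] at h1
    norm_num at h1
  have h1 := Core.classInner_irr_self hirr
  have h2 := Core.classInner_irr_ne hirr hone hne
  have hc : (Nat.card S : ℂ) ≠ 0 := Core.card_ne_zero_complex
  rw [Core.classInner_def] at h1 h2 ⊢
  simp only [map_sub, map_natCast, map_one, Pi.one_apply, mul_one] at h1 h2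
  simp only [ch28_mul_conj]
  have h3 : ∑ g : S, (Nat.card (MulAction.fixedBy Z g) : ℂ) ^ 2 =
      ∑ g : S, ((Nat.card (MulAction.fixedBy Z g) : ℂ) - 1) * ((Nat.card (MulAction.fixedBy Z g) : ℂ) - 1) +
      2 * ∑ g : S, ((Nat.card (MulAction.fixedBy Z g) : ℂ) - 1) + ∑ g : S, (1 : ℂ) := by
    rw [Finset.mul_sum, ← Finset.sum_add_distrib, ← Finset.sum_add_distrib]
    refine Finset.sum_congr rfl fun g _ => ?_
    ring
  have h4 : ∑ g : S, (1 : ℂ) = (Nat.card S : ℂ) := by simp only [_root_.Finset.sum_const, _root_.Finset.card_univ, _root_.nsmul_eq_mul, _root_.mul_one, _root_.Nat.card_eq_fintype_card]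
  rw [h3, h4, mul_add, mul_add, h1, mul_left_comm, h2, inv_mul_cancel₀ hc]
  norm_num

theorem isIrr_chL : IsIrrCharacter S chL := by
  have : Fintype S := Fintype.ofFinite S
  rw [Core.isIrr_iff_classInner_self isCharacter_chL, Core.classInner_def]
  have h1 : ∀ g : S, chL g * conj (chL g) = (r21 g).trace * (r21 g⁻¹).trace := by
    intro g
    rw [← Core.isCharacter_apply_inv isCharacter_chL g, trace_r21, trace_r21]
    rfl
  have hc : (Nat.card S : ℂ) ≠ 0 := Core.card_ne_zero_complex
  rw [Finset.sum_congr rfl fun g _ => h1 g, sum_r21, ← Nat.card_eq_fintype_card, inv_mul_cancel₀ hc]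

theorem ch28_one : ch28 1 = 28 := by
  rw [ch28, map_one, Matrix.trace_one, card_Z]
  norm_num

theorem ch7_one : ch7 1 = 7 := by
  rw [ch7, map_one, Matrix.trace_one, Fintype.card_fin]
  norm_num

theorem isIrr_ch21 : IsIrrCharacter S ch21 := by
  have : Fintype S := Fintype.ofFinite S
  rw [Core.isIrr_iff_classInner_self isCharacter_ch21]
  obtain ⟨a, ha⟩ := Core.classInner_isNat isCharacter_ch7 isCharacter_ch7
  obtain ⟨b, hb⟩ := Core.classInner_isNat isCharacter_ch7 isCharacter_ch21
  obtain ⟨c, hc⟩ := Core.classInner_isNat isCharacter_ch21 isCharacter_ch7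
  obtain ⟨d, hd⟩ := Core.classInner_isNat isCharacter_ch21 isCharacter_ch21
  have ha0 : a ≠ 0 := by
    rintro rfl
    rw [Nat.cast_zero] at ha
    have := congrFun (Core.classInner_self_eq_zero ha) 1
    rw [ch7_one] at this
    norm_num at this
  have hd0 : d ≠ 0 := by
    rintro rfl
    rw [Nat.cast_zero] at hd
    have := congrFun (Core.classInner_self_eq_zero hd) 1
    rw [ch21, ch7_one, ch28_one] at this
    norm_num at this
  have hsum : ch28 = ch7 + ch21 := by
    funext g
    simp [ch21]
  have h1 := classInner_ch28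
  rw [hsum, Core.classInner_add_left, Core.classInner_add_right, Core.classInner_add_right, ha, hb, hc, hd] at h1
  have h2 : (a + b) + (c + d) = 2 := by exact_mod_cast h1
  rw [hd]
  have : d = 1 := by omega
  rw [this, Nat.cast_one]

theorem ch7_tv : ch7 (tv 0) = -5 * dl (tv 0) := by
  rw [ch7_eq, Rm_tv, Matrix.trace, Fin.sum_univ_seven]
  simp only [mono, _root_.Fin.isValue, _root_.Int.reduceNeg, _root_.Matrix.diag_apply, _root_.id_eq, ↓ _root_.reduceIte, _root_.Int.cast_one, _root_.one_ne_zero, _root_.Int.cast_neg, _root_.add_neg_cancel, _root_.Fin.reduceEq, _root_.zero_add, _root_.neg_mul]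
  ring

theorem sum_fix : (∑ c : Fin 64, if qN c then (if fN c (kc 0) then (-1 : ℤ) else 0) else 0) = -16 := by
  decide +kernel

theorem trace_M_tv : (M ℂ (tv 0)).trace = -16 := by
  have h1 : (M ℂ (tv 0)).trace = ((∑ a : Z, (if fN (code a.1) (kc 0) then (-1 : ℤ) else 0) : ℤ) : ℂ) := by
    rw [trace_M, Int.cast_sum]
    refine Finset.sum_congr rfl fun a _ => ?_
    rcases om_cases (a : V) (enc (kc 0)) with h | h
    · have hf : fN (code a.1) (kc 0) = false := by
        by_contra hcon
        rw [Bool.not_eq_false] at hcon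
        rw [om_code, hcon] at h
        exact absurd h (by decide)
      have h2 : tv 0 • a ≠ a := by
        intro h3
        have h4 := congrArg Subtype.val h3
        rw [coe_smul_tv_of_zero 0 a h] at h4
        have h5 : enc (kc 0) = 0 := by
          have h6 : (a : V) + ((a : V) + enc (kc 0)) = (a : V) + a := by rw [h4]
          rwa [← add_assoc, add_self, zero_add] at h6
        exact absurd h5 (by decide)
      rw [if_neg h2, hf]
      simp
    · have hf : fN (code a.1) (kc 0) = true := by
        by_contra hcon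
        rw [Bool.not_eq_true] at hcon
        rw [om_code, hcon] at h
        exact absurd h (by decide)
      rw [if_pos (smul_tv_of_one 0 a h), hf, if_pos rfl]
      congr 1
      unfold eps
      rw [smul_tv_of_one 0 a h, cg_tv, h]
      rfl
  have h2 := sum_Z (fun v => if fN (code v) (kc 0) then (-1 : ℤ) else 0)
  simp only [code_enc] at h2
  rw [h1, h2, sum_fix]
  norm_num

theorem chL_ne : chL ≠ ch21 := by
  intro h
  have h1 := congrFun h (tv 0)
  have h2 : tv 0 * tv 0 = 1 := tr_sq _
  rw [chL, ch21, h2, ch7_one, ch7_tv, ch28_eq, trace_M_tv] at h1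
  have h3 := dl_mul_self (tv 0)
  rcases mul_self_eq_one_iff.1 h3 with h4 | h4 <;> rw [h4] at h1 <;> norm_num at h1

theorem not_ratl : ¬ Ratl S := by
  intro h
  have : Fintype S := Fintype.ofFinite S
  refine h.gen (chL - ch21) ⟨_, _, isCharacter_chL, isCharacter_ch21, rfl⟩ ?_ ?_
  · rw [Pi.sub_apply, chL, ch21, mul_one, ch7_one, ch28_one]
    norm_num
  · rw [Core.classInner_sub_left, Core.classInner_sub_right, Core.classInner_sub_right,
      Core.classInner_irr_self isIrr_chL, Core.classInner_irr_self isIrr_ch21,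
      Core.classInner_irr_ne isIrr_chL isIrr_ch21 chL_ne,
      Core.classInner_irr_ne isIrr_ch21 isIrr_chL chL_ne.symm]
    norm_num

end Cfsg.Agent.H689.Sp6

namespace Cfsg.Agent.H689

theorem not_ratl_psp_six {F : Type*} [Field F] [Fintype F] (hF : Fintype.card F = 2) :
    ¬ Ratl (PSp 3 F) := by
  obtain ⟨e⟩ := StandardComponent.SpTwoAut.exists_equiv hF
  exact fun h => Sp6.not_ratl (h.of_equiv e)

end Cfsg.Agent.H689
end

private theorem dce_9a228966df99 : _root_.True := by
  try have : _root_.True := by simp only [_root_.Cfsg.Agent.H689.Sp6.M.eq_1]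
  try have : _root_.True := by simp only [_root_.Cfsg.Agent.H689.Sp6.Sm.eq_1]
  try have : _root_.True := by simp only [_root_.Cfsg.Agent.H689.Sp6.ch28.eq_1]
  try have : _root_.True := by simp only [_root_.Cfsg.Agent.H689.Sp6.dl.eq_1]
  try have : _root_.True := by simp only [_root_.Cfsg.Agent.H689.Sp6.chL.eq_1]
  try have : _root_.True := by simp only [_root_.Cfsg.Agent.H689.Sp6.mono.eq_1]
  try have : _root_.True := by simp only [_root_.Cfsg.Agent.H689.Sp6.code.eq_1]
  try have : _root_.True := by simp only [_root_.Cfsg.Agent.H689.Sp6.ts.eq_1]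
  try have : _root_.True := by simp only [_root_.Cfsg.Agent.H689.Sp6.ch21.eq_1]
  try have : _root_.True := by simp only [_root_.Cfsg.Agent.H689.Sp6.Rm.eq_1]
  try have : _root_.True := by simp only [_root_.Cfsg.Agent.H689.Sp6.r21.eq_1]
  try have : _root_.True := by simp only [_root_.Cfsg.Agent.H689.Sp6.aff.eq_1]
  try have : _root_.True := by simp only [_root_.Cfsg.Agent.H689.Sp6.ch7.eq_1]
  try have : _root_.True := by simp only [_root_.Cfsg.Agent.H689.Sp6.alt.eq_1]
  try have : _root_.True := by simp only [_root_.Cfsg.Agent.H689.Sp6.Uc.eq_1]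
  exact _root_.True.intro
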